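import Mathlib.GroupTheory.Nilpotent
import Mathlib.GroupTheory.GroupAction.MultipleTransitivity
import Mathlib.Tactic.Group
import Cfsg.Agent.H24.Nilp

/-!
# Saturation of a split doubly transitive action of odd degree: basic facts

`Data` is a doubly transitive action on an odd number of points with a conjugation invariant family
of nilpotent subgroups `U a ≤ G_a`, transitive on the remaining points, containing every 2-element
of `G_a`.  `A a` is the subgroup of involutions centralising `U a`.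
-/

set_option autoImplicit false
set_option linter.unusedSectionVars false

namespace Cfsg.Agent.H48.Saturation

open MulAction

universe u v

/-- The order is a power of two. -/
def TwoEl {G : Type*} [Group G] (g : G) : Prop := ∃ k : ℕ, g ^ 2 ^ k = 1

section TwoEl

variable {G : Type*} [Group G]

theorem TwoEl.of_sq {g : G} (h : g * g = 1) : TwoEl g := ⟨1, by rw [pow_one, sq, h]⟩

theorem TwoEl.one : TwoEl (1 : G) := ⟨0, one_pow _⟩

theorem TwoEl.inv {g : G} (h : TwoEl g) : TwoEl g⁻¹ := by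
  obtain ⟨k, hk⟩ := h
  exact ⟨k, by rw [inv_pow, hk, inv_one]⟩

theorem TwoEl.pow {g : G} (h : TwoEl g) (i : ℕ) : TwoEl (g ^ i) := by
  obtain ⟨k, hk⟩ := h
  exact ⟨k, by rw [← pow_mul, mul_comm, pow_mul, hk, one_pow]⟩

theorem TwoEl.conj {g : G} (h : TwoEl g) (x : G) : TwoEl (x * g * x⁻¹) := by
  obtain ⟨k, hk⟩ := h
  exact ⟨k, by rw [conj_pow, hk, mul_one, mul_inv_cancel]⟩

theorem twoEl_mul_nilpotent [Finite G] [Group.IsNilpotent G] {g h : G} (hg : TwoEl g)
    (hh : TwoEl h) : TwoEl (g * h) := by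
  have key : ∀ x : G, TwoEl x → x ∈ ((default : Sylow 2 G) : Subgroup G) := by
    intro x hx
    have hP : IsPGroup 2 (Subgroup.zpowers x) := by
      rintro ⟨y, hy⟩
      obtain ⟨i, rfl⟩ := Subgroup.mem_zpowers_iff.1 hy
      obtain ⟨k, hk⟩ := hx
      exact ⟨k, Subtype.ext (by
        push_cast
        rw [← zpow_natCast, ← zpow_mul, mul_comm, zpow_mul, zpow_natCast, hk, one_zpow])⟩
    obtain ⟨Q, hQ⟩ := hP.exists_le_sylow
    have := Sylow.unique_of_normal (default : Sylow 2 G) inferInstance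
    rw [← Subsingleton.elim Q (default : Sylow 2 G)]
    exact hQ (Subgroup.mem_zpowers x)
  obtain ⟨k, hk⟩ := (default : Sylow 2 G).isPGroup' ⟨g * h, mul_mem (key g hg) (key h hh)⟩
  exact ⟨k, by simpa using congrArg Subtype.val hk⟩

theorem inv_conj_pow {x g : G} (hx : x * x = 1) (h : x * g * x = g⁻¹) (i : ℕ) :
    (g ^ i)⁻¹ * x * g ^ i = x * g ^ (2 * i) := by
  have hxi : x⁻¹ = x := inv_eq_of_mul_eq_one_right hx
  have e1 : x * g * x⁻¹ = g⁻¹ := by rw [hxi, h]
  have := conj_pow (i := i) (a := x) (b := g)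
  rw [e1, hxi, inv_pow] at this
  rw [this, mul_assoc (x * g ^ i), hx, mul_one, mul_assoc, ← pow_add, two_mul]

theorem exists_odd_twoEl [Finite G] (g : G) : ∃ o : ℕ, Odd o ∧ TwoEl (g ^ o) := by
  obtain ⟨k, o, ho, h⟩ := Nat.exists_eq_two_pow_mul_odd (orderOf_pos g).ne'
  exact ⟨o, ho, k, by rw [← pow_mul, mul_comm, ← h, pow_orderOf_eq_one]⟩

end TwoEl

/-- A split doubly transitive action of odd degree. -/
structure Data (G : Type u) (Ω : Type v) [Group G] [MulAction G Ω] where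
  U : Ω → Subgroup G
  fix : ∀ a, ∀ u ∈ U a, u • a = a
  conj : ∀ (g : G) (a : Ω), ∀ u ∈ U a, g * u * g⁻¹ ∈ U (g • a)
  trans : ∀ {a b c : Ω}, b ≠ a → c ≠ a → ∃ u ∈ U a, u • b = c
  two : ∀ {a b a' b' : Ω}, a ≠ b → a' ≠ b' → ∃ g : G, g • a = a' ∧ g • b = b'
  nil : ∀ a, Group.IsNilpotent (U a)
  two_el : ∀ (a : Ω) (g : G), g • a = a → TwoEl g → g ∈ U a
  odd_pts : Odd (Nat.card Ω)
  one_lt : 1 < Nat.card Ω

namespace Data

variable {G : Type u} {Ω : Type v} [Group G] [Finite G] [MulAction G Ω] (D : Data G Ω)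

include D in
theorem finite_pts : Finite Ω := Nat.finite_of_card_ne_zero (by have := D.one_lt; omega)

/-- The 2-elements fixing `a`. -/
def S (a : Ω) : Subgroup G where
  carrier := {g | g • a = a ∧ TwoEl g}
  one_mem' := ⟨one_smul _ _, TwoEl.one⟩
  mul_mem' := by
    rintro g h ⟨hga, hg⟩ ⟨hha, hh⟩
    refine ⟨by rw [mul_smul, hha, hga], ?_⟩
    have := D.nil a
    let g' : D.U a := ⟨g, D.two_el a g hga hg⟩
    let h' : D.U a := ⟨h, D.two_el a h hha hh⟩
    obtain ⟨k, hk⟩ := twoEl_mul_nilpotent (g := g') (h := h')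
      (by obtain ⟨k, hk⟩ := hg; exact ⟨k, Subtype.ext (by simpa [g'] using hk)⟩)
      (by obtain ⟨k, hk⟩ := hh; exact ⟨k, Subtype.ext (by simpa [h'] using hk)⟩)
    exact ⟨k, by simpa [g', h'] using congrArg Subtype.val hk⟩
  inv_mem' := by
    rintro g ⟨hga, hg⟩
    exact ⟨inv_smul_eq_iff.2 hga.symm, hg.inv⟩

/-- The 2-elements fixing `a` and `b`. -/
def T (a b : Ω) : Subgroup G := D.S a ⊓ stabilizer G b

/-- The involutions fixing `a` that centralise `U a`, with `1`. -/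
def A (a : Ω) : Subgroup G where
  carrier := {z | z • a = a ∧ z * z = 1 ∧ ∀ u ∈ D.U a, z * u = u * z}
  one_mem' := ⟨one_smul _ _, one_mul 1, fun u _ => by rw [one_mul, mul_one]⟩
  mul_mem' := by
    rintro z w ⟨hza, hz, hzu⟩ ⟨hwa, hw, hwu⟩
    have hc : z * w = w * z := hzu w (D.two_el a w hwa (TwoEl.of_sq hw))
    refine ⟨by rw [mul_smul, hwa, hza], ?_, fun u hu => ?_⟩
    · rw [show z * w * (z * w) = z * (w * z) * w by group, ← hc,
        show z * (z * w) * w = (z * z) * (w * w) by group, hz, hw, one_mul]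
    · rw [mul_assoc, hwu u hu, ← mul_assoc, hzu u hu, mul_assoc]
  inv_mem' := by
    rintro z ⟨hza, hz, hzu⟩
    have : z⁻¹ = z := inv_eq_of_mul_eq_one_right hz
    rw [this]
    exact ⟨hza, hz, hzu⟩

variable {D}

theorem mem_S {a : Ω} {g : G} : g ∈ D.S a ↔ g • a = a ∧ TwoEl g := Iff.rfl

theorem mem_T {a b : Ω} {g : G} : g ∈ D.T a b ↔ g • a = a ∧ g • b = b ∧ TwoEl g := by
  simp only [T, Subgroup.mem_inf, mem_S, MulAction.mem_stabilizer_iff]; tauto

theorem mem_A {a : Ω} {z : G} :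
    z ∈ D.A a ↔ z • a = a ∧ z * z = 1 ∧ ∀ u ∈ D.U a, z * u = u * z := Iff.rfl

variable (D)

theorem T_comm (a b : Ω) : D.T a b = D.T b a := by
  ext g; simp only [mem_T]; tauto

theorem T_le_S (a b : Ω) : D.T a b ≤ D.S a := inf_le_left

theorem S_le_U (a : Ω) : D.S a ≤ D.U a := fun g hg => D.two_el a g hg.1 hg.2

theorem A_le_S (a : Ω) : D.A a ≤ D.S a := fun _ hz => ⟨hz.1, TwoEl.of_sq hz.2.1⟩

theorem S_conj (g : G) {a : Ω} {x : G} (hx : x ∈ D.S a) : g * x * g⁻¹ ∈ D.S (g • a) :=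
  ⟨by rw [mul_smul, inv_smul_smul, mul_smul, hx.1], hx.2.conj g⟩

theorem T_conj (g : G) {a b : Ω} {x : G} (hx : x ∈ D.T a b) :
    g * x * g⁻¹ ∈ D.T (g • a) (g • b) := by
  rw [mem_T] at hx ⊢
  exact ⟨by rw [mul_smul, inv_smul_smul, mul_smul, hx.1],
    by rw [mul_smul, inv_smul_smul, mul_smul, hx.2.1], hx.2.2.conj g⟩

theorem A_conj (g : G) {a : Ω} {z : G} (hz : z ∈ D.A a) : g * z * g⁻¹ ∈ D.A (g • a) := by
  obtain ⟨hza, hzz, hzu⟩ := mem_A.1 hz
  refine ⟨by rw [mul_smul, inv_smul_smul, mul_smul, hza], ?_, fun u hu => ?_⟩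
  · rw [show g * z * g⁻¹ * (g * z * g⁻¹) = g * (z * z) * g⁻¹ by group, hzz]; group
  · have h : g⁻¹ * u * g ∈ D.U a := by
      have := D.conj g⁻¹ (g • a) u hu
      rwa [inv_smul_smul, inv_inv] at this
    calc g * z * g⁻¹ * u = g * (z * (g⁻¹ * u * g)) * g⁻¹ := by group
      _ = g * ((g⁻¹ * u * g) * z) * g⁻¹ := by rw [hzu _ h]
      _ = u * (g * z * g⁻¹) := by group

theorem A_conj_fix {g : G} {a : Ω} (hg : g • a = a) {z : G} (hz : z ∈ D.A a) :
    g * z * g⁻¹ ∈ D.A a := by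
  have := D.A_conj g hz
  rwa [hg] at this

theorem A_comm_T {a b : Ω} {z t : G} (hz : z ∈ D.A a) (ht : t ∈ D.T a b) : z * t = t * z :=
  (mem_A.1 hz).2.2 t (D.S_le_U a (D.T_le_S a b ht))

theorem A_comm_S {a : Ω} {z t : G} (hz : z ∈ D.A a) (ht : t ∈ D.S a) : z * t = t * z :=
  (mem_A.1 hz).2.2 t (D.S_le_U a ht)

section Faithful

variable [FaithfulSMul G Ω]

omit [Finite G] in
theorem eq_one_of_fix {g : G} (h : ∀ c : Ω, g • c = c) : g = 1 :=
  FaithfulSMul.eq_of_smul_eq_smul fun c : Ω => by rw [h c, one_smul]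

theorem A_fix_only {a b : Ω} {z : G} (hz : z ∈ D.A a) (hz1 : z ≠ 1) (hb : z • b = b) : b = a := by
  by_contra hba
  refine hz1 (eq_one_of_fix (Ω := Ω) fun c => ?_)
  by_cases hca : c = a
  · rw [hca]; exact hz.1
  · obtain ⟨u, hu, rfl⟩ := D.trans hba hca
    rw [← mul_smul, hz.2.2 u hu, mul_smul, hb]

theorem A_inf_T {a b : Ω} (hab : a ≠ b) {z : G} (hz : z ∈ D.A a) (ht : z • b = b) : z = 1 := by
  by_contra hz1
  exact hab (D.A_fix_only hz hz1 ht).symm

/-- The product of nontrivial elements attached to different points has odd order. -/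
theorem odd_orderOf_mul {a b : Ω} (hab : a ≠ b) {z z' : G} (hz : z ∈ D.A a) (hz1 : z ≠ 1)
    (hz' : z' ∈ D.A b) (hz'1 : z' ≠ 1) : Odd (orderOf (z * z')) := by
  obtain ⟨hza, hzz, -⟩ := mem_A.1 hz
  obtain ⟨hzb, hzz', -⟩ := mem_A.1 hz'
  have hzi : z⁻¹ = z := inv_eq_of_mul_eq_one_right hzz
  have hzi' : z'⁻¹ = z' := inv_eq_of_mul_eq_one_right hzz'
  set g := z * z' with hg
  have hinv : z * g * z = g⁻¹ := by
    rw [hg, mul_inv_rev, hzi, hzi', ← mul_assoc, hzz, one_mul]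
  by_contra hcon
  obtain ⟨m, hm⟩ := Nat.not_odd_iff_even.1 hcon
  set w := g ^ m with hw
  have hm0 : 0 < m := by have := orderOf_pos g; omega
  have hw1 : w ≠ 1 := by
    intro e
    have := orderOf_le_of_pow_eq_one hm0 e
    omega
  have hww : w * w = 1 := by rw [hw, ← pow_add, ← hm, pow_orderOf_eq_one]
  have hwi : w⁻¹ = w := inv_eq_of_mul_eq_one_right hww
  have hwg : w * g = g * w := by rw [hw]; group
  have hzw : z * w = w * z := by
    have e1 : z * g * z⁻¹ = g⁻¹ := by rw [hzi, hinv]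
    have := conj_pow (i := m) (a := z) (b := g)
    rw [e1, hzi, inv_pow, ← hw, hwi] at this
    calc z * w = z * w * (z * z) := by rw [hzz, mul_one]
      _ = (z * w * z) * z := by group
      _ = w * z := by rw [← this]
  have hz'w : z' * w = w * z' := by
    have : z' = z * g := by rw [hg, ← mul_assoc, hzz, one_mul]
    rw [this, mul_assoc, ← hwg, ← mul_assoc, hzw, mul_assoc]
  have hwa : w • a = a := D.A_fix_only hz hz1 (by rw [← mul_smul, hzw, mul_smul, hza])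
  have hwb : w • b = b := D.A_fix_only hz' hz'1 (by rw [← mul_smul, hz'w, mul_smul, hzb])
  -- a conjugate of `z` equal to an element of `A c` times `w`
  have key : ∀ (c : Ω) (x h : G), x ∈ D.A c → w • c = c → h * z * h⁻¹ = x * w → w ∈ D.A c := by
    intro c x h hx hwc e
    have hmem := D.A_conj h hz
    rw [e] at hmem
    have hne : x * w ≠ 1 := e ▸ fun e' => hz1 (conj_eq_one_iff.1 e')
    have hcd : c = h • a := D.A_fix_only hmem hne (by rw [mul_smul, hwc, hx.1])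
    rw [← hcd] at hmem
    have := (D.A c).mul_mem ((D.A c).inv_mem hx) hmem
    rwa [inv_mul_cancel_left] at this
  rcases Nat.even_or_odd m with ⟨i, hi⟩ | ⟨i, hi⟩
  · have e : (g ^ i)⁻¹ * z * ((g ^ i)⁻¹)⁻¹ = z * w := by
      rw [inv_inv, inv_conj_pow hzz hinv, hw, hi, two_mul]
    exact hw1 (D.A_inf_T hab (key a z _ hz hwa e) hwb)
  · have e1 : g ^ (2 * i) = w * g⁻¹ := by
      rw [eq_mul_inv_iff_mul_eq, ← pow_succ, hw, hi]
    have e : (z * (g ^ i)⁻¹) * z * (z * (g ^ i)⁻¹)⁻¹ = z' * w := by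
      calc _ = z * ((g ^ i)⁻¹ * z * g ^ i) * z⁻¹ := by group
        _ = z * (z * (w * g⁻¹)) * z := by rw [inv_conj_pow hzz hinv, e1, hzi]
        _ = (z * z) * (w * (z' * z)) * z := by rw [hg, mul_inv_rev, hzi, hzi']; group
        _ = 1 * (w * (z' * z)) * z := by rw [hzz]
        _ = w * z' * (z * z) := by group
        _ = z' * w := by rw [hzz, mul_one, hz'w]
    exact hw1 (D.A_inf_T (Ne.symm hab) (key b z' _ hz' hwb e) hwa)

/-- Nontrivial elements attached to different points: conjugate in the dihedral group they generate. -/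
theorem exists_conj_of_ne {a b : Ω} (hab : a ≠ b) {z z' : G} (hz : z ∈ D.A a) (hz1 : z ≠ 1)
    (hz' : z' ∈ D.A b) (hz'1 : z' ≠ 1) : ∃ h : G, h * z * h⁻¹ = z' ∧ h • a = b := by
  obtain ⟨i, hi⟩ := D.odd_orderOf_mul hab hz hz1 hz' hz'1
  obtain ⟨hza, hzz, -⟩ := mem_A.1 hz
  obtain ⟨hzb, hzz', -⟩ := mem_A.1 hz'
  have hzi : z⁻¹ = z := inv_eq_of_mul_eq_one_right hzz
  have hzi' : z'⁻¹ = z' := inv_eq_of_mul_eq_one_right hzz'
  set g := z * z' with hg
  have hinv : z * g * z = g⁻¹ := by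
    rw [hg, mul_inv_rev, hzi, hzi', ← mul_assoc, hzz, one_mul]
  have e1 : g ^ (2 * i) = g⁻¹ := by
    rw [eq_inv_iff_mul_eq_one, ← pow_succ, ← hi, pow_orderOf_eq_one]
  have e : (z * (g ^ i)⁻¹) * z * (z * (g ^ i)⁻¹)⁻¹ = z' := by
    calc _ = z * ((g ^ i)⁻¹ * z * g ^ i) * z⁻¹ := by group
      _ = z * (z * g⁻¹) * z := by rw [inv_conj_pow hzz hinv, e1, hzi]
      _ = (z * z) * z' * (z * z) := by rw [hg, mul_inv_rev, hzi, hzi']; group
      _ = z' := by rw [hzz, one_mul, mul_one]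
  have hmem := D.A_conj (z * (g ^ i)⁻¹) hz
  rw [e] at hmem
  exact ⟨_, e, (D.A_fix_only hmem hz'1 hzb).symm⟩

omit [Finite G] [FaithfulSMul G Ω] in
include D in
theorem exists_third [Finite Ω] (a b : Ω) : ∃ c : Ω, c ≠ a ∧ c ≠ b := by
  classical
  have := Fintype.ofFinite Ω
  have h := D.odd_pts
  have h1 := D.one_lt
  rw [Nat.card_eq_fintype_card] at h h1
  have : ({a, b} : Finset Ω) ≠ Finset.univ := fun e => by
    have := Finset.card_le_two (a := a) (b := b)
    rw [e, Finset.card_univ] at this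
    rw [Nat.odd_iff] at h
    omega
  obtain ⟨c, hc⟩ : ∃ c, c ∉ ({a, b} : Finset Ω) := by
    by_contra hh
    push Not at hh
    exact this (Finset.eq_univ_iff_forall.2 hh)
  exact ⟨c, by simp at hc; exact hc.1, by simp at hc; exact hc.2⟩

theorem exists_A_ne_one [Finite Ω] {a b : Ω} (hab : a ≠ b) (hT : D.T a b ≠ ⊥) (c : Ω) :
    ∃ z ∈ D.A c, z ≠ 1 := by
  obtain ⟨t, ht, ht1⟩ : ∃ t ∈ D.T a b, t ≠ 1 := by
    by_contra h
    push Not at h
    exact hT ((Subgroup.eq_bot_iff_forall _).2 h)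
  suffices h : ∃ z ∈ D.A a, z ≠ 1 by
    obtain ⟨z, hz, hz1⟩ := h
    by_cases hca : c = a
    · exact ⟨z, hca ▸ hz, hz1⟩
    · obtain ⟨g, hg, -⟩ := D.two hab (show c ≠ a from hca)
      refine ⟨g * z * g⁻¹, hg ▸ D.A_conj g hz, fun e => hz1 (conj_eq_one_iff.1 e)⟩
  have := D.nil a
  set N : Subgroup (D.U a) := (D.S a).subgroupOf (D.U a)
  have : N.Normal := ⟨fun x hx y => by
    have h1 := D.S_conj (y : G) (Subgroup.mem_subgroupOf.1 hx)
    rw [D.fix a y y.2] at h1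
    exact Subgroup.mem_subgroupOf.2 (by simpa using h1)⟩
  have hne : N ≠ ⊥ := fun e => by
    have : (⟨t, D.S_le_U a (D.T_le_S a b ht)⟩ : D.U a) ∈ N :=
      Subgroup.mem_subgroupOf.2 (D.T_le_S a b ht)
    rw [e, Subgroup.mem_bot] at this
    exact ht1 (congrArg Subtype.val this)
  obtain ⟨x, hx, hx1⟩ : ∃ x ∈ N ⊓ Subgroup.center (D.U a), x ≠ 1 := by
    by_contra h
    push Not at h
    exact H24.inf_center_ne_bot N hne ((Subgroup.eq_bot_iff_forall _).2 h)
  obtain ⟨hxa, k, hk⟩ := Subgroup.mem_subgroupOf.1 hx.1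
  have hcomm : ∀ (i : ℕ), ∀ u ∈ D.U a, (x : G) ^ i * u = u * (x : G) ^ i := fun i u hu => by
    have h1 := congrArg Subtype.val (Subgroup.mem_center_iff.1 hx.2 ⟨u, hu⟩)
    exact (Commute.pow_left (show Commute (x : G) u from h1.symm) i).eq
  -- the last nontrivial power
  have hx1' : (x : G) ≠ 1 := fun e => hx1 (Subtype.ext e)
  have hfix : ∀ i : ℕ, (x : G) ^ i • a = a := by
    intro i
    induction i with
    | zero => simp
    | succ i ih => rw [pow_succ, mul_smul, hxa, ih]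
  classical
  have hex : ∃ k, (x : G) ^ 2 ^ k = 1 := ⟨k, hk⟩
  have h0 : Nat.find hex ≠ 0 := fun e => by
    have := Nat.find_spec hex
    rw [e, pow_zero, pow_one] at this
    exact hx1' this
  obtain ⟨j, hj⟩ := Nat.exists_eq_succ_of_ne_zero h0
  refine ⟨(x : G) ^ 2 ^ j, ⟨hfix _, ?_, hcomm _⟩, Nat.find_min hex (by omega)⟩
  have := Nat.find_spec hex
  rwa [hj, pow_succ, mul_two, pow_add] at this

/-- The number of elements of `A` does not depend on the point; all nontrivial ones are conjugate. -/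
theorem exists_conj_A [Finite Ω] {a b : Ω} {z z' : G} (hz : z ∈ D.A a) (hz1 : z ≠ 1)
    (hz' : z' ∈ D.A b) (hz'1 : z' ≠ 1) : ∃ h : G, h * z * h⁻¹ = z' ∧ h • a = b := by
  by_cases hab : a = b
  · subst hab
    obtain ⟨c, hca, -⟩ := D.exists_third a a
    obtain ⟨g, hg1, -⟩ := D.two (Ne.symm hca) hca
    have hw := D.A_conj g hz
    rw [hg1] at hw
    have hw1 : g * z * g⁻¹ ≠ 1 := fun e => hz1 (conj_eq_one_iff.1 e)
    obtain ⟨h1, e1, f1⟩ := D.exists_conj_of_ne (Ne.symm hca) hz hz1 hw hw1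
    obtain ⟨h2, e2, f2⟩ := D.exists_conj_of_ne hca hw hw1 hz' hz'1
    refine ⟨h2 * h1, ?_, by rw [mul_smul, f1, f2]⟩
    rw [← e2, ← e1]; group
  · exact D.exists_conj_of_ne hab hz hz1 hz' hz'1

theorem eq_of_commute_A {a b : Ω} {z z' : G} (hz : z ∈ D.A a) (hz1 : z ≠ 1) (hz' : z' ∈ D.A b)
    (hz'1 : z' ≠ 1) (h : Commute z z') : a = b :=
  (D.A_fix_only hz hz1
    (D.A_fix_only hz' hz'1 (by rw [← mul_smul, ← h.eq, mul_smul, hz'.1]))).symm

end Faithful

end Data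

end Cfsg.Agent.H48.Saturation
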