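import Cfsg.Agent.H48.Saturation.Count
import Cfsg.Agent.Coprime.Action
import Mathlib.GroupTheory.Nilpotent

/-!
# Saturation: the subgroups `E a b = T a b * A a`

A 2-element fixing `a` that normalises `T a b` lies in `E a b`; consequently `T a b` is elementary
and, comparing the blocks of lines with equal `E` with the help of the rotations, of order two.
-/

set_option autoImplicit false
set_option linter.unusedSectionVars false

namespace Cfsg.Agent.H48.Saturation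

open MulAction

universe u v

namespace Data

variable {G : Type u} {Ω : Type v} [Group G] [Finite G] [MulAction G Ω] [FaithfulSMul G Ω]
  [Finite Ω] (D : Data G Ω)

/-- The product of `T a b` and `A a`. -/
def E (a b : Ω) : Subgroup G where
  carrier := {g | ∃ t ∈ D.T a b, ∃ z ∈ D.A a, g = t * z}
  one_mem' := ⟨1, (D.T a b).one_mem, 1, (D.A a).one_mem, (one_mul 1).symm⟩
  mul_mem' := by
    rintro g h ⟨t, ht, z, hz, rfl⟩ ⟨t', ht', z', hz', rfl⟩
    refine ⟨t * t', (D.T a b).mul_mem ht ht', z * z', (D.A a).mul_mem hz hz', ?_⟩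
    rw [show t * z * (t' * z') = t * (z * t') * z' by group, D.A_comm_T hz ht']; group
  inv_mem' := by
    rintro g ⟨t, ht, z, hz, rfl⟩
    refine ⟨t⁻¹, (D.T a b).inv_mem ht, z⁻¹, (D.A a).inv_mem hz, ?_⟩
    rw [mul_inv_rev, D.A_comm_T ((D.A a).inv_mem hz) ((D.T a b).inv_mem ht)]

variable {D}

theorem T_le_E (a b : Ω) : D.T a b ≤ D.E a b := fun t ht =>
  ⟨t, ht, 1, (D.A a).one_mem, (mul_one t).symm⟩

theorem A_le_E (a b : Ω) : D.A a ≤ D.E a b := fun z hz =>
  ⟨1, (D.T a b).one_mem, z, hz, (one_mul z).symm⟩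

theorem E_le_S (a b : Ω) : D.E a b ≤ D.S a := by
  rintro g ⟨t, ht, z, hz, rfl⟩
  exact (D.S a).mul_mem (D.T_le_S a b ht) (D.A_le_S a hz)

theorem E_congr {a b c : Ω} (h : D.T a b = D.T a c) : D.E a b = D.E a c := by
  ext g
  show (∃ t ∈ D.T a b, _) ↔ (∃ t ∈ D.T a c, _)
  rw [h]

theorem smul_ne {g : G} {a c : Ω} (hga : g • a = a) (hc : c ≠ a) : g • c ≠ a := fun e =>
  hc (MulAction.injective g (e.trans hga.symm))

theorem conj_T {g : G} {a c : Ω} (hga : g • a = a) (hc : c ≠ a) {x : G} :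
    x ∈ D.T a (g • c) ↔ g⁻¹ * x * g ∈ D.T a c := by
  constructor
  · intro h
    have := D.T_conj g⁻¹ h
    rwa [inv_smul_eq_iff.2 hga.symm, inv_smul_smul, inv_inv] at this
  · intro h
    have := D.T_conj g h
    rwa [hga, show g * (g⁻¹ * x * g) * g⁻¹ = x by group] at this

theorem conj_E {g : G} {a c : Ω} (hga : g • a = a) (hc : c ≠ a) {x : G} :
    x ∈ D.E a (g • c) ↔ g⁻¹ * x * g ∈ D.E a c := by
  constructor
  · rintro ⟨t, ht, z, hz, rfl⟩
    refine ⟨g⁻¹ * t * g, (conj_T hga hc).1 ht, g⁻¹ * z * g, ?_, by group⟩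
    have := D.A_conj g⁻¹ hz
    rwa [inv_smul_eq_iff.2 hga.symm, inv_inv] at this
  · rintro ⟨t, ht, z, hz, e⟩
    refine ⟨g * t * g⁻¹, ?_, g * z * g⁻¹, D.A_conj_fix hga hz, ?_⟩
    · rw [conj_T hga hc]; rwa [show g⁻¹ * (g * t * g⁻¹) * g = t by group]
    · rw [show x = g * (g⁻¹ * x * g) * g⁻¹ by group, e]; group

theorem T_congr_of_mem {a b c : Ω} (hB : D.Bad) (hab : a ≠ b) (hc : c ≠ a) {g : G}
    (hg : g ∈ D.T a b) (hgc : g ∈ D.T a c) (hg1 : g ≠ 1) : D.T a c = D.T a b := by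
  classical
  obtain ⟨hga, hgb, k, hk⟩ := mem_T.1 hg
  have hex : ∃ i, g ^ 2 ^ i = 1 := ⟨k, hk⟩
  have h0 : Nat.find hex ≠ 0 := fun e => hg1 (by
    have := Nat.find_spec hex
    rwa [e, pow_zero, pow_one] at this)
  obtain ⟨j, hj⟩ := Nat.exists_eq_succ_of_ne_zero h0
  have hspec := Nat.find_spec hex
  rw [hj, pow_succ, mul_two, pow_add] at hspec
  exact (D.T_eq_iff (Ne.symm hab) hc).2 (fixed_eq_line hB hab ((D.T a b).pow_mem hg (2 ^ j)) hspec
    (Nat.find_min hex (by omega)) (mem_T.1 ((D.T a c).pow_mem hgc (2 ^ j))).2.1)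

theorem card_E {a b : Ω} (hab : a ≠ b) :
    Nat.card (D.E a b) = Nat.card (D.T a b) * Nat.card (D.A a) := by
  rw [← Nat.card_prod]
  refine (Nat.card_congr (Equiv.ofBijective
    (fun p => (⟨(p.1 : G) * p.2, p.1, p.1.2, p.2, p.2.2, rfl⟩ : D.E a b)) ⟨?_, ?_⟩)).symm
  · rintro ⟨t, z⟩ ⟨t', z'⟩ h
    have h' : (t : G) * z = t' * z' := congrArg Subtype.val h
    have e : (t'⁻¹ : G) * t = z' * (z : G)⁻¹ := by
      rw [eq_mul_inv_iff_mul_eq, mul_assoc, h', inv_mul_cancel_left]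
    have hzA := (D.A a).mul_mem z'.2 ((D.A a).inv_mem z.2)
    have hT := (D.T a b).mul_mem ((D.T a b).inv_mem t'.2) t.2
    rw [e] at hT
    have h1 := D.A_inf_T hab hzA (mem_T.1 hT).2.1
    rw [h1] at e
    exact Prod.ext (Subtype.ext (inv_mul_eq_one.1 e).symm) (Subtype.ext (mul_inv_eq_one.1 h1).symm)
  · rintro ⟨g, t, ht, z, hz, rfl⟩
    exact ⟨(⟨t, ht⟩, ⟨z, hz⟩), rfl⟩

theorem card_E_eq {a b c : Ω} (hab : a ≠ b) (hc : c ≠ a) :
    Nat.card (D.E a b) = Nat.card (D.E a c) := by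
  rw [card_E hab, card_E (Ne.symm hc), D.card_T_eq hab (Ne.symm hc)]

/-- A 2-element fixing `a` and normalising `T a b` lies in `E a b`. -/
theorem mem_E_of_normalize (hB : D.Bad) {a b : Ω} (hab : a ≠ b) {s : G} (hs : s ∈ D.S a)
    (hsb : D.T a (s • b) = D.T a b) : s ∈ D.E a b := by
  classical
  obtain ⟨x, hx, hx1⟩ : ∃ x ∈ D.T a b, x ≠ 1 := by
    by_contra h; push Not at h; exact hB.T_ne hab ((Subgroup.eq_bot_iff_forall _).2 h)
  obtain ⟨k, hk⟩ := (mem_T.1 hx).2.2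
  have hex : ∃ i, x ^ 2 ^ i = 1 := ⟨k, hk⟩
  obtain ⟨j, hj⟩ := Nat.exists_eq_succ_of_ne_zero (fun e : Nat.find hex = 0 => hx1 (by
    have := Nat.find_spec hex
    rwa [e, pow_zero, pow_one] at this))
  have hspec := Nat.find_spec hex
  rw [hj, pow_succ, mul_two, pow_add] at hspec
  obtain ⟨-, -, m, hm, hline⟩ := counting hB hab ((D.T a b).pow_mem hx (2 ^ j)) hspec
    (Nat.find_min hex (by omega))
  -- the 2-elements fixing `a` and preserving the line
  let K : Subgroup G := D.S a ⊓ Subgroup.normalizer (D.T a b : Set G)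
  have hpres : ∀ g ∈ K, ∀ p ∈ D.line a b, g • p ∈ D.line a b := by
    rintro g ⟨hgS, hgn⟩ p hp t ht
    have : g⁻¹ * t * g ∈ D.T a b := by
      have := (Subgroup.mem_normalizer_iff.1 ((Subgroup.normalizer _).inv_mem hgn) t).1 ht
      simpa using this
    calc t • g • p = g • ((g⁻¹ * t * g) • p) := by simp [mul_smul]
      _ = g • p := by rw [hp _ this]
  have hEK : D.E a b ≤ K := by
    intro g hg
    refine ⟨E_le_S a b hg, Subgroup.mem_normalizer_iff.2 fun t => ?_⟩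
    obtain ⟨u, hu, z, hz, rfl⟩ := hg
    constructor
    · intro ht
      rw [show u * z * t * (u * z)⁻¹ = u * (z * t * z⁻¹) * u⁻¹ by group, D.A_comm_T hz ht,
        mul_inv_cancel_right]
      exact (D.T a b).mul_mem ((D.T a b).mul_mem hu ht) ((D.T a b).inv_mem hu)
    · intro ht
      have h2 : z * t * z⁻¹ ∈ D.T a b := by
        have := (D.T a b).mul_mem ((D.T a b).mul_mem ((D.T a b).inv_mem hu) ht) hu
        rwa [show u⁻¹ * (u * z * t * (u * z)⁻¹) * u = z * t * z⁻¹ by group] at this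
      have h3 := D.A_comm_T hz h2
      rw [show z * t * z⁻¹ * z = z * t by group] at h3
      rw [← mul_left_cancel h3]
      exact h2
  let _ : MulAction K ↥(D.line a b \ {a}) :=
    { smul := fun g p => ⟨(g : G) • (p : Ω), hpres g g.2 p p.2.1, smul_ne g.2.1.1 p.2.2⟩
      one_smul := fun p => Subtype.ext (one_smul G (p : Ω))
      mul_smul := fun g h p => Subtype.ext (mul_smul (g : G) (h : G) (p : Ω)) }
  have hdvd := index_dvd_card ((D.T a b).subgroupOf K) (X := ↥(D.line a b \ {a})) fun p => by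
    ext g
    rw [mem_stabilizer_iff, Subgroup.mem_subgroupOf]
    constructor
    · intro h
      rw [← D.T_eq hab (left_mem_line a b) p.2.1 (Ne.symm p.2.2)]
      exact mem_T.2 ⟨g.2.1.1, congrArg Subtype.val h, g.2.1.2⟩
    · intro h
      exact Subtype.ext (p.2.1 _ h)
  rw [Nat.card_coe_set_eq, Set.ncard_diff_singleton_of_mem (left_mem_line a b), hline,
    Nat.add_sub_cancel_left] at hdvd
  have hKp : IsPGroup 2 K := fun g => by
    obtain ⟨i, hi⟩ := g.2.1.2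
    exact ⟨i, Subtype.ext (by simpa using hi)⟩
  obtain ⟨i, hi⟩ := hKp.index ((D.T a b).subgroupOf K)
  rw [hi] at hdvd
  have hcop : Nat.Coprime (2 ^ i) m := Nat.Coprime.pow_left i (Nat.coprime_two_left.2 hm)
  have hle : 2 ^ i ≤ Nat.card (D.A a) :=
    Nat.le_of_dvd Nat.card_pos (hcop.dvd_of_dvd_mul_right hdvd)
  have hTK : D.T a b ≤ K := (T_le_E a b).trans hEK
  have hcK : Nat.card K = 2 ^ i * Nat.card (D.T a b) := by
    rw [← hi, ← Nat.card_congr (Subgroup.subgroupOfEquivOfLe hTK).toEquiv, Subgroup.index_mul_card]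
  have hKE : K = D.E a b := (Subgroup.eq_of_le_of_card_ge hEK (by
    rw [hcK, card_E hab, mul_comm]
    exact Nat.mul_le_mul_left _ hle)).symm
  rw [← hKE]
  refine ⟨hs, Subgroup.mem_normalizer_iff.2 fun t => ?_⟩
  show t ∈ D.T a b ↔ s * t * s⁻¹ ∈ D.T a b
  conv_rhs => rw [← hsb, conj_T hs.1 (Ne.symm hab)]
  rw [show s⁻¹ * (s * t * s⁻¹) * s = t by group]

theorem exists_other_line (hB : D.Bad) {a b : Ω} (hab : a ≠ b) {x z : G} (hx : x ∈ D.T a b)
    (hxx : x * x = 1) (hx1 : x ≠ 1) (hz : z ∈ D.A a) (hz1 : z ≠ 1) :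
    ∃ c, c ≠ a ∧ z * x ∈ D.T a c ∧ D.T a c ≠ D.T a b := by
  have hxa := (mem_T.1 hx).1
  have hzx : (z * x) • a = a := by rw [mul_smul, hxa, hz.1]
  have h2 : 1 < (fixedBy Ω (z * x)).ncard := by
    rw [card_fixed_eq hB hab hx hxx hx1 hz hz1]
    exact (Set.one_lt_ncard (Set.toFinite _)).2
      ⟨a, hxa, b, (mem_T.1 hx).2.1, hab⟩
  obtain ⟨c, hc, hca⟩ := Set.exists_ne_of_one_lt_ncard h2 a
  refine ⟨c, hca, mem_T.2 ⟨hzx, hc, TwoEl.of_sq (zy_sq hz hxx hxa)⟩, fun e => hz1 ?_⟩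
  have h3 : z * x ∈ D.T a b := e ▸ mem_T.2 ⟨hzx, hc, TwoEl.of_sq (zy_sq hz hxx hxa)⟩
  refine D.A_inf_T hab hz ?_
  have := (D.T a b).mul_mem h3 ((D.T a b).inv_mem hx)
  rw [mul_inv_cancel_right] at this
  exact (mem_T.1 this).2.1

theorem mem_E_of_comm (hB : D.Bad) {a b c : Ω} (hab : a ≠ b) (hc : c ≠ a) {x z t : G}
    (hx : x ∈ D.T a b) (hz : z ∈ D.A a) (hzx : z * x ∈ D.T a c) (hzx1 : z * x ≠ 1)
    (ht : t ∈ D.T a b) (htx : t * x = x * t) : t ∈ D.E a c := by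
  have hta := (mem_T.1 ht).1
  refine mem_E_of_normalize hB (Ne.symm hc) (D.T_le_S a b ht) ?_
  refine T_congr_of_mem hB (Ne.symm hc) (smul_ne hta hc) hzx ?_ hzx1
  rw [conj_T hta hc,
    show t⁻¹ * (z * x) * t = z * x by
      rw [show t⁻¹ * (z * x) * t = t⁻¹ * (z * (x * t)) by group, ← htx, ← mul_assoc z,
        D.A_comm_T hz ht]; group]
  exact hzx

theorem T_sq (hB : D.Bad) {a b : Ω} (hab : a ≠ b) {t : G} (ht : t ∈ D.T a b) : t * t = 1 := by
  classical
  have hne := hB.T_ne hab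
  have hP : IsPGroup 2 (D.T a b) := fun t => by
    obtain ⟨k, hk⟩ := (mem_T.1 t.2).2.2
    exact ⟨k, Subtype.ext (by simpa using hk)⟩
  have : Nontrivial (D.T a b) := (Subgroup.nontrivial_iff_ne_bot _).2 hne
  have hcent : Nontrivial (Subgroup.center (D.T a b)) := hP.center_nontrivial
  obtain ⟨x, hx⟩ := exists_prime_orderOf_dvd_card' (G := Subgroup.center (D.T a b)) 2 (by
    obtain ⟨i, hi0, hi⟩ := (hP.to_subgroup _).nontrivial_iff_card.1 hcent
    rw [hi]; exact dvd_pow_self 2 (by omega))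
  set x' : G := ((x : D.T a b) : G)
  have hxx : x' * x' = 1 := by
    have := pow_orderOf_eq_one x
    rw [hx, sq] at this
    exact congrArg (fun y : Subgroup.center (D.T a b) => ((y : D.T a b) : G)) this
  have hx1 : x' ≠ 1 := fun e => by
    have : x = 1 := Subtype.ext (Subtype.ext e)
    rw [this, orderOf_one] at hx
    omega
  have hxc : t * x' = x' * t :=
    congrArg Subtype.val (Subgroup.mem_center_iff.1 x.2 ⟨t, ht⟩)
  obtain ⟨z, hz, hz1⟩ := hB.hA a
  obtain ⟨c, hc, hzx, hne'⟩ := exists_other_line hB hab (x : D.T a b).2 hxx hx1 hz hz1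
  obtain ⟨w, hw, e, he, rfl⟩ := mem_E_of_comm hB hab hc (x : D.T a b).2 hz hzx (fun h => hx1 (by
    have hx' : x' = z :=
      (inv_eq_of_mul_eq_one_right h).symm.trans (inv_eq_of_mul_eq_one_right hz.2.1)
    exact absurd (D.A_inf_T hab hz (hx' ▸ (mem_T.1 (x : D.T a b).2).2.1)) hz1)) ht hxc
  by_contra hne2
  refine hne' (T_congr_of_mem hB hab hc ((D.T a b).mul_mem ht ht) ?_ hne2)
  rw [show w * e * (w * e) = w * (e * w) * e by group, D.A_comm_T he hw,
    show w * (w * e) * e = w * w * (e * e) by group, he.2.1, mul_one]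
  exact (D.T a c).mul_mem hw hw

theorem T_comm_mul (hB : D.Bad) {a b : Ω} (hab : a ≠ b) {t x : G} (ht : t ∈ D.T a b)
    (hx : x ∈ D.T a b) : t * x = x * t := by
  calc t * x = (t * x)⁻¹ :=
        (inv_eq_of_mul_eq_one_right (T_sq hB hab ((D.T a b).mul_mem ht hx))).symm
    _ = x * t := by
      rw [mul_inv_rev, inv_eq_of_mul_eq_one_right (T_sq hB hab ht),
        inv_eq_of_mul_eq_one_right (T_sq hB hab hx)]

/-- Lines sharing an element outside `A a` have equal `E`. -/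
theorem E_eq_of_mem (hB : D.Bad) {a b c : Ω} (hab : a ≠ b) (hc : c ≠ a) {t : G}
    (ht : t ∈ D.T a b) (ht1 : t ≠ 1) (htc : t ∈ D.E a c) : D.E a c = D.E a b := by
  obtain ⟨w, hw, e, he, hte⟩ := htc
  by_cases he1 : e = 1
  · rw [he1, mul_one] at hte
    exact E_congr (T_congr_of_mem hB hab hc ht (hte ▸ hw) ht1)
  have hze : e * t ∈ D.T a c := by
    rw [hte, ← mul_assoc, D.A_comm_T he hw, mul_assoc, he.2.1, mul_one]
    exact hw
  have hne : e * t ≠ 1 := fun h => ht1 (by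
    have h2 : t = e := by
      rw [← inv_eq_of_mul_eq_one_right h]
      exact inv_eq_of_mul_eq_one_right he.2.1
    exact absurd (D.A_inf_T hab he (h2 ▸ (mem_T.1 ht).2.1)) he1)
  refine (Subgroup.eq_of_le_of_card_ge ?_ (card_E_eq hab hc).ge).symm
  rintro g ⟨s, hs, f, hf, rfl⟩
  exact (D.E a c).mul_mem (mem_E_of_comm hB hab hc ht he hze hne hs (T_comm_mul hB hab hs ht))
    (A_le_E a c hf)

theorem E_eq_of_other (hB : D.Bad) {a b c : Ω} (hab : a ≠ b) (hc : c ≠ a) {t z : G}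
    (ht : t ∈ D.T a b) (ht1 : t ≠ 1) (hz : z ∈ D.A a) (hzt : z * t ∈ D.T a c) :
    D.E a c = D.E a b := by
  refine E_eq_of_mem hB hab hc ht ht1 ⟨z * t, hzt, z, hz, ?_⟩
  rw [D.A_comm_T hz ht, mul_assoc, hz.2.1, mul_one]

end Data

end Cfsg.Agent.H48.Saturation
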