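import Cfsg.Agent.H48.Saturation.LineSet

/-!
# Saturation: an involution fixing two points fixes exactly one line

The points moved by such an involution `y` are counted by their centres, which shows that the
fixed point sets of `y` and of all `z * y` with `z` in an `A c`, `c` fixed by `y`, have the same
size; a comparison with the number of lines through a point, a power of two, leaves one line.
-/

set_option autoImplicit false
set_option linter.unusedSectionVars false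

namespace Cfsg.Agent.H48.Saturation

open MulAction

universe u v

namespace Data

variable {G : Type u} {Ω : Type v} [Group G] [Finite G] [MulAction G Ω] [FaithfulSMul G Ω]
  [Finite Ω] (D : Data G Ω)

/-- Every pair is fixed by a nontrivial 2-element and each `A a` has at least three elements. -/
structure Bad : Prop where
  T_ne : ∀ {a b : Ω}, a ≠ b → D.T a b ≠ ⊥
  two_A : ∀ a, ∀ z ∈ D.A a, z ≠ 1 → ∃ z' ∈ D.A a, z' ≠ 1 ∧ z' ≠ z

variable {D}

theorem Bad.hA (hB : D.Bad) : ∀ c : Ω, ∃ z ∈ D.A c, z ≠ 1 := by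
  intro c
  obtain ⟨b, hb, -⟩ := D.exists_third c c
  exact D.exists_A_ne_one (Ne.symm hb) (hB.T_ne (Ne.symm hb)) c

theorem fixed_conj (g y : G) :
    (fixedBy Ω (g * y * g⁻¹)).ncard = (fixedBy Ω y).ncard := by
  have : fixedBy Ω (g * y * g⁻¹) = (g • ·) '' fixedBy Ω y := by
    ext c
    simp only [mem_fixedBy, Set.mem_image]
    constructor
    · intro h
      refine ⟨g⁻¹ • c, ?_, smul_inv_smul g c⟩
      conv_rhs => rw [← h]
      simp [mul_smul]
    · rintro ⟨d, hd, rfl⟩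
      rw [mul_smul, inv_smul_smul, mul_smul, hd]
  rw [this, Set.ncard_image_of_injective _ (MulAction.injective g)]

theorem zy_sq {a : Ω} {z y : G} (hz : z ∈ D.A a) (hy : y * y = 1) (hya : y • a = a) :
    z * y * (z * y) = 1 := by
  have hc : z * y = y * z := (mem_A.1 hz).2.2 y (D.two_el a y hya (TwoEl.of_sq hy))
  rw [show z * y * (z * y) = z * (y * z) * y by group, ← hc,
    show z * (z * y) * y = (z * z) * (y * y) by group, hz.2.1, hy, one_mul]

/-- The number of fixed points of `z * y` does not depend on the nontrivial `z`. -/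
theorem card_fixed_const (hB : D.Bad) {a b : Ω} (hab : a ≠ b) {y : G} (hy : y ∈ D.T a b)
    (hyy : y * y = 1) {z₀ : G} (hz₀ : z₀ ∈ D.A a) (hz₀1 : z₀ ≠ 1) {c : Ω} (hc : y • c = c) {z : G}
    (hz : z ∈ D.A c) (hz1 : z ≠ 1) :
    (fixedBy Ω (z * y)).ncard = (fixedBy Ω (z₀ * y)).ncard := by
  have base : ∀ z ∈ D.A a, z ≠ 1 →
      (fixedBy Ω (z * y)).ncard = (fixedBy Ω (z₀ * y)).ncard := by
    intro z hz hz1
    by_cases he : z₀ = z
    · rw [he]
    · obtain ⟨g, hg, hgz⟩ := D.exists_rot_conj hB.hA hab hz₀ hz₀1 hz hz1 he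
      have hgy : g * y * g⁻¹ = y := by rw [hg.comm_T hab hy, mul_inv_cancel_right]
      rw [show z * y = g * (z₀ * y) * g⁻¹ by
        rw [show g * (z₀ * y) * g⁻¹ = g * z₀ * g⁻¹ * (g * y * g⁻¹) by group, hgz, hgy],
        fixed_conj]
  by_cases hca : c = a
  · subst hca; exact base z hz hz1
  · have hyc : y ∈ D.T c a := mem_T.2 ⟨hc, (mem_T.1 hy).1, TwoEl.of_sq hyy⟩
    obtain ⟨w, hw⟩ := D.exists_swap hB.hA hca
    obtain ⟨d, hd, hwc⟩ := id hw
    have hwy : w * y * w⁻¹ = y := by rw [swaps_comm hca hw hyc, mul_inv_cancel_right]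
    have hz' : w * z * w⁻¹ ∈ D.A a := by have := D.A_conj w hz; rwa [hwc] at this
    rw [← base _ hz' (fun e => hz1 (conj_eq_one_iff.1 e)), ← fixed_conj w (z * y),
      show w * (z * y) * w⁻¹ = w * z * w⁻¹ * (w * y * w⁻¹) by group, hwy]

theorem moved_count (hB : D.Bad) {a b : Ω} (hab : a ≠ b) {y : G} (hy : y ∈ D.T a b)
    (hyy : y * y = 1) {z₀ : G} (hz₀ : z₀ ∈ D.A a) (hz₀1 : z₀ ≠ 1) :
    Nat.card Ω = (fixedBy Ω y).ncard + (fixedBy Ω y).ncard *
      ((Nat.card (D.A a) - 1) * ((fixedBy Ω (z₀ * y)).ncard - 1)) := by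
  classical
  have := Fintype.ofFinite Ω
  have := Fintype.ofFinite G
  let P := Σ c : fixedBy Ω y, Σ z : {z : G // z ∈ D.A c ∧ z ≠ 1},
    {p : Ω // p ≠ (c : Ω) ∧ ((z : G) * y) • p = p}
  have hyz : ∀ {c p : Ω} {z : G}, z ∈ D.A c → (z * y) • p = p → y • p = z • p := by
    intro c p z hz h
    conv_rhs => rw [← h]
    rw [← mul_smul, ← mul_assoc, hz.2.1, one_mul]
  let f : P → ↥((fixedBy Ω y)ᶜ) := fun x => ⟨x.2.2.1, fun h =>
    x.2.2.2.1 (D.A_fix_only x.2.1.2.1 x.2.1.2.2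
      ((hyz x.2.1.2.1 x.2.2.2.2).symm.trans h))⟩
  have hf : Function.Bijective f := by
    constructor
    · rintro ⟨⟨c₁, hc₁⟩, ⟨z₁, hz₁, hz₁1⟩, ⟨p₁, hp₁, he₁⟩⟩
        ⟨⟨c₂, hc₂⟩, ⟨z₂, hz₂, hz₂1⟩, ⟨p₂, hp₂, he₂⟩⟩ h
      have hp : p₁ = p₂ := congrArg Subtype.val h
      subst hp
      have h1 := hyz hz₁ he₁
      have h2 := hyz hz₂ he₂
      have hmv : y • p₁ ≠ p₁ := fun e => hp₁ (D.A_fix_only hz₁ hz₁1 (h1.symm.trans e))
      have hcc : c₁ = c₂ := D.centre_unique hyy hmv (D.centre_mem (Ne.symm hmv) hz₁ h1.symm) hc₁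
        (D.centre_mem (Ne.symm hmv) hz₂ h2.symm) hc₂
      subst hcc
      have hzz : z₁ = z₂ := by
        have h3 : (z₂ * z₁) • p₁ = p₁ := by
          rw [mul_smul, ← h1, h2, ← mul_smul, hz₂.2.1, one_smul]
        have := D.A_inf_T (Ne.symm hp₁) ((D.A c₁).mul_mem hz₂ hz₁) h3
        rw [← inv_eq_of_mul_eq_one_right this]
        exact inv_eq_of_mul_eq_one_right hz₂.2.1
      subst hzz
      rfl
    · rintro ⟨p, hp⟩
      obtain ⟨c, hc, hyc⟩ := D.exists_centre hyy p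
      obtain ⟨z, hz, hz1, hzp⟩ := D.decomp hB.hA hyy hp hc hyc
      exact ⟨⟨⟨c, hyc⟩, ⟨z, hz, hz1⟩, ⟨p, fun e => hp (by rw [mem_fixedBy, e]; exact hyc), hzp⟩⟩, rfl⟩
  have key : ∀ (c : fixedBy Ω y) (z : {z : G // z ∈ D.A c ∧ z ≠ 1}),
      Nat.card {p : Ω // p ≠ (c : Ω) ∧ ((z : G) * y) • p = p} =
        (fixedBy Ω (z₀ * y)).ncard - 1 := by
    rintro ⟨c, hc⟩ ⟨z, hz, hz1⟩
    have hmem : c ∈ fixedBy Ω (z * y) := by
      rw [mem_fixedBy, mul_smul, show y • c = c from hc, hz.1]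
    rw [← card_fixed_const hB hab hy hyy hz₀ hz₀1 hc hz hz1,
      ← Set.ncard_diff_singleton_of_mem hmem, ← Nat.card_coe_set_eq]
    exact Nat.card_congr (Equiv.subtypeEquivRight fun p => by simp [and_comm])
  have hc := Nat.card_congr (Equiv.ofBijective f hf)
  have h1 : ∀ c : fixedBy Ω y, Nat.card (Σ z : {z : G // z ∈ D.A c ∧ z ≠ 1},
      {p : Ω // p ≠ (c : Ω) ∧ ((z : G) * y) • p = p}) =
        (Nat.card (D.A a) - 1) * ((fixedBy Ω (z₀ * y)).ncard - 1) := by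
    intro c
    rw [Nat.card_sigma, Finset.sum_congr rfl (fun z _ => key c z), Finset.sum_const,
      Finset.card_univ, smul_eq_mul, ← Nat.card_eq_fintype_card]
    have := card_nonone (D.A (c : Ω))
    rw [D.card_A_eq a (c : Ω), ← this, Nat.add_sub_cancel]
  rw [Nat.card_sigma, Finset.sum_congr rfl (fun c _ => h1 c), Finset.sum_const, Finset.card_univ,
    smul_eq_mul, ← Nat.card_eq_fintype_card, Nat.card_coe_set_eq, Nat.card_coe_set_eq] at hc
  rw [hc, Set.ncard_add_ncard_compl]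

/-- `z * y` and `y` fix equally many points, and more than one. -/
theorem card_fixed_eq (hB : D.Bad) {a b : Ω} (hab : a ≠ b) {y : G} (hy : y ∈ D.T a b)
    (hyy : y * y = 1) (hy1 : y ≠ 1) {z₀ : G} (hz₀ : z₀ ∈ D.A a) (hz₀1 : z₀ ≠ 1) :
    (fixedBy Ω (z₀ * y)).ncard = (fixedBy Ω y).ncard := by
  have hm := moved_count hB hab hy hyy hz₀ hz₀1
  have hya := (mem_T.1 hy).1
  have hz0a : a ∈ fixedBy Ω (z₀ * y) := by
    rw [mem_fixedBy, mul_smul, hya, hz₀.1]
  have hgt : 1 < (fixedBy Ω (z₀ * y)).ncard := by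
    by_contra hle
    rw [Nat.sub_eq_zero_of_le (by omega : (fixedBy Ω (z₀ * y)).ncard ≤ 1)] at hm
    simp only [mul_zero, add_zero] at hm
    have : fixedBy Ω y = Set.univ := Set.eq_of_subset_of_ncard_le (Set.subset_univ _)
      (by rw [Set.ncard_univ, hm]) (Set.toFinite _)
    exact hy1 (eq_one_of_fix (Ω := Ω) fun c => by
      have : c ∈ fixedBy Ω y := this ▸ Set.mem_univ c
      exact this)
  obtain ⟨b', hb', hb'a⟩ := Set.exists_ne_of_one_lt_ncard hgt a
  have hy' : z₀ * y ∈ D.T a b' :=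
    mem_T.2 ⟨hz0a, hb', TwoEl.of_sq (zy_sq hz₀ hyy hya)⟩
  obtain ⟨z, hz, hz1, hzne⟩ := hB.two_A a z₀ hz₀ hz₀1
  have h1 : (z₀ * y) • a = a := hz0a
  have e1 := card_fixed_const hB (Ne.symm hb'a) hy' (zy_sq hz₀ hyy hya) hz₀ hz₀1 h1 hz hz1
  rw [← mul_assoc z₀, hz₀.2.1, one_mul, ← mul_assoc] at e1
  rw [← e1]
  refine (card_fixed_const hB hab hy hyy hz₀ hz₀1 hya ((D.A a).mul_mem hz hz₀) ?_).symm
  intro e
  refine hzne ?_
  rw [eq_inv_of_mul_eq_one_left e]
  exact inv_eq_of_mul_eq_one_right hz₀.2.1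

theorem card_A_dvd_line {a b : Ω} (hab : a ≠ b) :
    Nat.card (D.A a) ∣ (D.line a b).ncard - 1 := by
  rw [← Set.ncard_diff_singleton_of_mem (left_mem_line a b), ← Nat.card_coe_set_eq]
  have hne : ∀ (z : D.A a) (p : Ω), p ≠ a → (z : G) • p ≠ a := fun z p hp e =>
    hp (MulAction.injective (z : G) (e.trans z.2.1.symm))
  let _ : MulAction (D.A a) ↥(D.line a b \ {a}) :=
    { smul := fun z p => ⟨(z : G) • (p : Ω), D.A_line hab (left_mem_line a b) z.2 p.2.1,
        hne z p p.2.2⟩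
      one_smul := fun p => Subtype.ext (one_smul G (p : Ω))
      mul_smul := fun z w p => Subtype.ext (mul_smul (z : G) (w : G) (p : Ω)) }
  have h := index_dvd_card (⊥ : Subgroup (D.A a)) (X := ↥(D.line a b \ {a})) fun p => by
    rw [Subgroup.eq_bot_iff_forall]
    intro z hz
    exact Subtype.ext (D.A_inf_T (Ne.symm p.2.2) z.2 (congrArg Subtype.val hz))
  rwa [Subgroup.index_bot] at h

theorem card_A_two_pow (a : Ω) : ∃ j : ℕ, Nat.card (D.A a) = 2 ^ j :=
  IsPGroup.iff_card.1 fun z => ⟨1, Subtype.ext (by simpa [sq] using z.2.2.1)⟩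

theorem three_le_card_A (hB : D.Bad) (a : Ω) : 3 ≤ Nat.card (D.A a) := by
  classical
  have := Fintype.ofFinite (D.A a)
  obtain ⟨z, hz, hz1⟩ := hB.hA a
  obtain ⟨z', hz', hz'1, hne⟩ := hB.two_A a z hz hz1
  rw [Nat.card_eq_fintype_card]
  exact Fintype.two_lt_card_iff.2 ⟨1, ⟨z, hz⟩, ⟨z', hz'⟩, fun e => hz1 (congrArg Subtype.val e.symm),
    fun e => hz'1 (congrArg Subtype.val e.symm), fun e => hne (congrArg Subtype.val e.symm)⟩

/-- The line has `m * q` points beside `a` with `m` odd, an involution fixing `a` and `b` lies in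
only one `T a b'`, and there are `q + q * m * (q - 1)` lines. -/
theorem counting (hB : D.Bad) {a b : Ω} (hab : a ≠ b) {y : G} (hy : y ∈ D.T a b)
    (hyy : y * y = 1) (hy1 : y ≠ 1) :
    {W | W ∈ D.lines a ∧ y ∈ W}.ncard = 1 ∧ Nat.card (D.A a) < (D.lines a).ncard ∧
    ∃ m, Odd m ∧ (D.line a b).ncard = 1 + Nat.card (D.A a) * m := by
  obtain ⟨z₀, hz₀, hz₀1⟩ := hB.hA a
  have hm := moved_count hB hab hy hyy hz₀ hz₀1
  rw [card_fixed_eq hB hab hy hyy hy1 hz₀ hz₀1, D.card_fixedBy hab (TwoEl.of_sq hyy) (mem_T.1 hy).1,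
    D.card_pts_lines hab, Nat.add_sub_cancel_left] at hm
  obtain ⟨i, hi⟩ := D.lines_two_pow hab
  obtain ⟨j, hj⟩ := card_A_two_pow (D := D) a
  obtain ⟨m, hm'⟩ := card_A_dvd_line (D := D) hab
  have hq := three_le_card_A hB a
  have hr : 0 < {W | W ∈ D.lines a ∧ y ∈ W}.ncard :=
    (Set.ncard_pos (Set.toFinite _)).2 ⟨D.T a b, ⟨b, Ne.symm hab, rfl⟩, hy⟩
  have hl : 0 < (D.line a b).ncard - 1 := by
    have h2 : 1 < (D.line a b).ncard :=
      (Set.one_lt_ncard (Set.toFinite _)).2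
        ⟨a, left_mem_line a b, b, right_mem_line a b, hab⟩
    omega
  rw [hm'] at hm hl
  set q := Nat.card (D.A a)
  set r := {W | W ∈ D.lines a ∧ y ∈ W}.ncard
  set R := (D.lines a).ncard
  have hm0 : 0 < m := Nat.pos_of_ne_zero fun e => by simp [e] at hl
  obtain ⟨q', hq'⟩ : ∃ q', q = q' + 1 := ⟨q - 1, by omega⟩
  have e : q * m * R = q * m * (r * (q + q * m * q' * r)) := by
    rw [hq'] at hm ⊢
    simp only [Nat.add_sub_cancel] at hm
    nlinarith
  have eR : R = r * q * (1 + m * q' * r) := by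
    rw [Nat.eq_of_mul_eq_mul_left (by positivity) e]; ring
  rw [hi] at eR
  obtain ⟨k, -, hk⟩ := (Nat.dvd_prime_pow Nat.prime_two).1 (Dvd.intro_left _ eR.symm :
    1 + m * q' * r ∣ 2 ^ i)
  have hgt : 1 < 1 + m * q' * r := by
    have : 0 < m * q' * r := by have : 0 < q' := by omega
                                positivity
    omega
  have hk0 : k ≠ 0 := fun e0 => by rw [e0, pow_zero] at hk; omega
  have hodd : Odd (m * q' * r) := by
    rcases Nat.even_or_odd (m * q' * r) with he | ho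
    · exfalso
      have h1 : Even (2 ^ k) := (Nat.even_pow.2 ⟨even_two, hk0⟩)
      rw [← hk, Nat.even_add] at h1
      exact Nat.not_even_one (h1.2 he)
    · exact ho
  have hmr := Nat.odd_mul.1 hodd
  obtain ⟨k', -, hk'⟩ := (Nat.dvd_prime_pow Nat.prime_two).1
    (Dvd.intro _ (by rw [eR, mul_assoc]) : r ∣ 2 ^ i)
  have hr1 : r = 1 := by
    rcases Nat.eq_zero_or_pos k' with h0 | h0
    · rw [hk', h0, pow_zero]
    · exfalso
      exact Nat.not_even_iff_odd.2 hmr.2 (hk' ▸ Nat.even_pow.2 ⟨even_two, by omega⟩)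
  refine ⟨hr1, ?_, m, (Nat.odd_mul.1 hmr.1).1, by omega⟩
  show q < R
  rw [show R = 2 ^ i from hi, eR, hr1, one_mul, mul_one]
  rw [hr1, mul_one] at hgt
  calc q = q * 1 := (mul_one q).symm
    _ < q * (1 + m * q') := Nat.mul_lt_mul_of_pos_left hgt (by omega)

/-- An involution fixing `a` and `b` fixes only the points of their line. -/
theorem fixed_eq_line (hB : D.Bad) {a b : Ω} (hab : a ≠ b) {y : G} (hy : y ∈ D.T a b)
    (hyy : y * y = 1) (hy1 : y ≠ 1) {c : Ω} (hc : y • c = c) : c ∈ D.line a b := by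
  by_cases hca : c = a
  · rw [hca]; exact left_mem_line a b
  · obtain ⟨h1, -, -⟩ := counting hB hab hy hyy hy1
    obtain ⟨W, hW⟩ := Set.ncard_eq_one.1 h1
    have hmem : ∀ V ∈ D.lines a, y ∈ V → V = W := fun V hV hyV => by
      have : V ∈ {W | W ∈ D.lines a ∧ y ∈ W} := ⟨hV, hyV⟩
      rwa [hW] at this
    have e1 := hmem (D.T a b) ⟨b, Ne.symm hab, rfl⟩ hy
    have e2 := hmem (D.T a c) ⟨c, hca, rfl⟩ (mem_T.2 ⟨(mem_T.1 hy).1, hc, TwoEl.of_sq hyy⟩)
    exact (D.T_eq_iff (Ne.symm hab) hca).1 (e2.trans e1.symm)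

end Data

end Cfsg.Agent.H48.Saturation
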