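import Cfsg.Agent.H48.Saturation.Rot
import Mathlib.GroupTheory.Sylow
import Mathlib.GroupTheory.Index

/-!
# Saturation: the lines through a point

`lines a` is the set of the subgroups `T a b`.  `S a` is transitive on it, so its number is a
power of two, and counting points line by line gives the sizes of fixed point sets.
-/

set_option autoImplicit false
set_option linter.unusedSectionVars false

namespace Cfsg.Agent.H48.Saturation

open MulAction

universe u v

/-- Equal stabilisers on a finite set: their index divides the number of points. -/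
theorem index_dvd_card {K X : Type*} [Group K] [MulAction K X] [Finite X] (N : Subgroup K)
    (h : ∀ x : X, stabilizer K x = N) : N.index ∣ Nat.card X := by
  classical
  have := Fintype.ofFinite (Quotient (orbitRel K X))
  rw [Nat.card_congr (selfEquivSigmaOrbits' K X), Nat.card_sigma]
  refine Finset.dvd_sum fun ω _ => ?_
  obtain ⟨x, rfl⟩ := Quotient.exists_rep ω
  rw [show orbitRel.Quotient.orbit (⟦x⟧ : Quotient (orbitRel K X)) = orbit K x from
    orbitRel.Quotient.orbit_mk x, Nat.card_coe_set_eq, ← index_stabilizer, h]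

namespace Data

variable {G : Type u} {Ω : Type v} [Group G] [Finite G] [MulAction G Ω] [FaithfulSMul G Ω]
  [Finite Ω] (D : Data G Ω)

/-- The subgroups `T a b`. -/
def lines (a : Ω) : Set (Subgroup G) := {W | ∃ b, b ≠ a ∧ D.T a b = W}

theorem card_line_eq {a b c d : Ω} (hab : a ≠ b) (hcd : c ≠ d) :
    (D.line a b).ncard = (D.line c d).ncard := by
  have key : ∀ {a b c d : Ω}, a ≠ b → c ≠ d → (D.line a b).ncard ≤ (D.line c d).ncard := by
    intro a b c d hab hcd
    obtain ⟨g, hga, hgb⟩ := D.two hab hcd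
    refine Set.ncard_le_ncard_of_injOn (g • ·) (fun e he => ?_) (MulAction.injective g).injOn
      (Set.toFinite _)
    show g • e ∈ D.line c d
    rw [← hga, ← hgb]
    exact D.smul_mem_line g he
  exact le_antisymm (key hab hcd) (key hcd hab)

theorem T_eq_iff {a b b' : Ω} (hba : b ≠ a) (hb'a : b' ≠ a) :
    D.T a b' = D.T a b ↔ b' ∈ D.line a b := by
  constructor
  · intro h t ht
    rw [← h] at ht
    exact (mem_T.1 ht).2.1
  · intro h
    exact D.T_eq (Ne.symm hba) (left_mem_line a b) h (Ne.symm hb'a)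

/-- Points seen from `a` are counted line by line. -/
theorem card_points {a b₀ : Ω} (hab : a ≠ b₀) (P : Subgroup G → Prop) :
    {b | b ≠ a ∧ P (D.T a b)}.ncard =
      ((D.line a b₀).ncard - 1) * {W | W ∈ D.lines a ∧ P W}.ncard := by
  classical
  have := Fintype.ofFinite Ω
  set L : Set (Subgroup G) := {W | W ∈ D.lines a ∧ P W}
  have := Fintype.ofFinite L
  let f : {b | b ≠ a ∧ P (D.T a b)} → L := fun b => ⟨D.T a b, ⟨b, b.2.1, rfl⟩, b.2.2⟩
  rw [← Nat.card_coe_set_eq {b | b ≠ a ∧ P (D.T a b)},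
    show {W | W ∈ D.lines a ∧ P W}.ncard = Nat.card L from (Nat.card_coe_set_eq L).symm,
    Nat.card_congr (Equiv.sigmaFiberEquiv f).symm,
    Nat.card_sigma]
  rw [Finset.sum_congr rfl (g := fun _ => (D.line a b₀).ncard - 1) ?_, Finset.sum_const,
    Finset.card_univ, smul_eq_mul, Nat.card_eq_fintype_card, mul_comm]
  rintro ⟨W, ⟨b, hba, rfl⟩, hP⟩ -
  rw [D.card_line_eq hab (Ne.symm hba), ← Set.ncard_diff_singleton_of_mem (left_mem_line a b),
    ← Nat.card_coe_set_eq]
  refine Nat.card_congr
    { toFun := fun x => ⟨x.1.1, ⟨(D.T_eq_iff hba x.1.2.1).1 (congrArg Subtype.val x.2), x.1.2.1⟩⟩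
      invFun := fun x => ⟨⟨x.1, x.2.2, by rw [(D.T_eq_iff hba x.2.2).2 x.2.1]; exact hP⟩,
        Subtype.ext ((D.T_eq_iff hba x.2.2).2 x.2.1)⟩
      left_inv := fun _ => rfl
      right_inv := fun _ => rfl }

theorem card_pts_lines {a b₀ : Ω} (hab : a ≠ b₀) :
    Nat.card Ω = 1 + ((D.line a b₀).ncard - 1) * (D.lines a).ncard := by
  have h := D.card_points hab (fun _ => True)
  simp only [and_true, Set.setOf_mem_eq] at h
  rw [← h, ← Set.ncard_univ, ← Set.ncard_diff_singleton_add_one (Set.mem_univ a) (Set.toFinite _),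
    add_comm]
  congr 2
  ext; simp

theorem card_fixedBy {a b₀ : Ω} (hab : a ≠ b₀) {y : G} (hy : TwoEl y) (hya : y • a = a) :
    (fixedBy Ω y).ncard =
      1 + ((D.line a b₀).ncard - 1) * {W | W ∈ D.lines a ∧ y ∈ W}.ncard := by
  have h := D.card_points hab (fun W => y ∈ W)
  rw [← h, ← Set.ncard_diff_singleton_add_one (show a ∈ fixedBy Ω y from hya) (Set.toFinite _),
    add_comm]
  congr 2
  ext b
  simp only [Set.mem_sdiff, mem_fixedBy, Set.mem_singleton_iff, Set.mem_ofPred_eq, mem_T, hya,
    hy, and_true, true_and]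
  tauto

theorem exists_U_conj {a b c : Ω} (hb : b ≠ a) (hc : c ≠ a) :
    ∃ u ∈ D.U a, (D.T a b).map (MulAut.conj u).toMonoidHom = D.T a c := by
  obtain ⟨u, hu, hub⟩ := D.trans hb hc
  refine ⟨u, hu, Subgroup.eq_of_le_of_card_ge ?_ ?_⟩
  · rintro _ ⟨t, ht, rfl⟩
    have := D.T_conj u ht
    rw [D.fix a u hu, hub] at this
    exact this
  · rw [Subgroup.card_map_of_injective (MulAut.conj u).injective,
      D.card_T_eq (Ne.symm hb) (Ne.symm hc)]

theorem exists_S_conj {a b c : Ω} (hb : b ≠ a) (hc : c ≠ a) :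
    ∃ s ∈ D.S a, (D.T a b).map (MulAut.conj s).toMonoidHom = D.T a c := by
  obtain ⟨u, hu, he⟩ := D.exists_U_conj hb hc
  have := D.nil a
  set S' : Subgroup (D.U a) := (D.S a).subgroupOf (D.U a)
  have hS' : S'.Normal := ⟨fun x hx y => by
    have h1 := D.S_conj (y : G) (Subgroup.mem_subgroupOf.1 hx)
    rw [D.fix a y y.2] at h1
    exact Subgroup.mem_subgroupOf.2 (by simpa using h1)⟩
  set K : Subgroup (D.U a) := (Subgroup.normalizer (D.T a b : Set G)).comap (D.U a).subtype
  have htop : K ⊔ S' = ⊤ := by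
    by_contra hne
    have h1 : (K ⊔ S').index ≠ 1 := fun e => hne (Subgroup.index_eq_one.1 e)
    obtain ⟨p, hp, hpd⟩ := Nat.exists_prime_and_dvd h1
    have := Fact.mk hp
    let P : Sylow p (D.U a) := default
    have hP : (P : Subgroup (D.U a)) ≤ K ⊔ S' := by
      by_cases hp2 : p = 2
      · subst hp2
        refine le_trans (fun x hx => ?_) le_sup_right
        obtain ⟨k, hk⟩ := P.isPGroup' ⟨x, hx⟩
        exact Subgroup.mem_subgroupOf.2 ⟨D.fix a x x.2, k, by
          simpa using congrArg (fun y : (P : Subgroup (D.U a)) => ((y : D.U a) : G)) hk⟩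
      · refine le_trans (fun x hx => ?_) le_sup_left
        rw [Subgroup.mem_comap, Subgroup.mem_normalizer_iff]
        have hS2 : IsPGroup 2 S' := fun y => by
          obtain ⟨k, hk⟩ := (Subgroup.mem_subgroupOf.1 y.2).2
          exact ⟨k, Subtype.ext (Subtype.ext (by simpa using hk))⟩
        have hdis : Disjoint (P : Subgroup (D.U a)) S' :=
          IsPGroup.disjoint_of_ne p 2 hp2 _ _ P.isPGroup' hS2
        have hcomm : ∀ t ∈ D.T a b, (x : G) * t = t * x := fun t ht => congrArg Subtype.val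
          (Subgroup.commute_of_normal_of_disjoint _ _ inferInstance hS' hdis x
            ⟨t, D.S_le_U a (D.T_le_S a b ht)⟩ hx (Subgroup.mem_subgroupOf.2 (D.T_le_S a b ht))).eq
        intro t
        refine ⟨fun ht => ?_, fun ht => ?_⟩
        · show (x : G) * t * (x : G)⁻¹ ∈ D.T a b
          rwa [hcomm t ht, mul_inv_cancel_right]
        · have h2 := hcomm _ (show (x : G) * t * (x : G)⁻¹ ∈ D.T a b from ht)
          have : t = (x : G) * t * (x : G)⁻¹ := by
            have h3 : (x : G) * ((x : G) * t * (x : G)⁻¹) = (x : G) * t := by rw [h2]; group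
            exact (mul_left_cancel h3).symm
          rw [this]; exact ht
    exact P.not_dvd_index (hpd.trans (Subgroup.index_dvd_of_le hP))
  have hu' : (⟨u, hu⟩ : D.U a) ∈ K ⊔ S' := htop ▸ Subgroup.mem_top _
  rw [sup_comm, ← SetLike.mem_coe, Subgroup.normal_mul] at hu'
  obtain ⟨s, hs, k, hk, hsk⟩ := Set.mem_mul.1 hu'
  refine ⟨(s : G), Subgroup.mem_subgroupOf.1 hs, ?_⟩
  have hk' : (D.T a b).map (MulAut.conj (k : G)).toMonoidHom = D.T a b := by
    refine Subgroup.eq_of_le_of_card_ge ?_
      (by rw [Subgroup.card_map_of_injective (MulAut.conj (k : G)).injective])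
    rintro _ ⟨t, ht, rfl⟩
    exact (Subgroup.mem_normalizer_iff.1 (Subgroup.mem_comap.1 hk) t).1 ht
  rw [← he, show u = (s : G) * k from (congrArg Subtype.val hsk).symm, map_mul]
  conv_lhs => rw [← hk', Subgroup.map_map]
  rfl

theorem lines_two_pow {a b : Ω} (hab : a ≠ b) : ∃ i : ℕ, (D.lines a).ncard = 2 ^ i := by
  classical
  set K : Subgroup (D.S a) := (Subgroup.normalizer (D.T a b : Set G)).comap (D.S a).subtype
  have hS2 : IsPGroup 2 (D.S a) := fun y => by
    obtain ⟨k, hk⟩ := y.2.2
    exact ⟨k, Subtype.ext (by simpa using hk)⟩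
  have hrel : ∀ s t : D.S a, QuotientGroup.leftRel K s t ↔
      (D.T a b).map (MulAut.conj (s : G)).toMonoidHom =
        (D.T a b).map (MulAut.conj (t : G)).toMonoidHom := by
    intro s t
    rw [QuotientGroup.leftRel_apply, Subgroup.mem_comap, Subgroup.mem_normalizer_iff]
    have hmem : ∀ (x : G) (h : G), h ∈ (D.T a b).map (MulAut.conj x).toMonoidHom ↔
        x⁻¹ * h * x ∈ D.T a b := fun x h => by
      constructor
      · rintro ⟨r, hr, rfl⟩
        simpa [mul_assoc] using hr
      · exact fun hh => ⟨_, hh, by simp [mul_assoc]⟩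
    constructor
    · intro h
      ext x
      rw [hmem, hmem]
      have := h ((t : G)⁻¹ * x * t)
      simp only [SetLike.mem_coe, Subgroup.coe_subtype, Subgroup.coe_mul, Subgroup.coe_inv] at this
      rw [this]
      have e : ((s : G)⁻¹ * t) * ((t : G)⁻¹ * x * t) * ((s : G)⁻¹ * t)⁻¹ = (s : G)⁻¹ * x * s := by
        group
      rw [e]
    · intro h x
      simp only [SetLike.mem_coe, Subgroup.coe_subtype, Subgroup.coe_mul, Subgroup.coe_inv]
      have := SetLike.ext_iff.1 h ((t : G) * x * (t : G)⁻¹)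
      rw [hmem, hmem] at this
      rw [show (t : G)⁻¹ * ((t : G) * x * (t : G)⁻¹) * t = x by group] at this
      rw [show ((s : G)⁻¹ * t) * x * ((s : G)⁻¹ * t)⁻¹ = (s : G)⁻¹ * ((t : G) * x * (t : G)⁻¹) * s
        by group]
      exact this.symm
  have hmapT : ∀ s : D.S a, (D.T a b).map (MulAut.conj (s : G)).toMonoidHom ∈ D.lines a := by
    intro s
    have hsa : (s : G) • a = a := s.2.1
    have hne : (s : G) • b ≠ a := fun e =>
      hab (MulAction.injective (s : G) (hsa.trans e.symm))
    refine ⟨(s : G) • b, hne, (Subgroup.eq_of_le_of_card_ge ?_ ?_).symm⟩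
    · rintro _ ⟨t, ht, rfl⟩
      have := D.T_conj (s : G) ht
      rwa [hsa] at this
    · rw [Subgroup.card_map_of_injective (MulAut.conj (s : G)).injective,
        D.card_T_eq hab (Ne.symm hne)]
  let f : D.S a ⧸ K → D.lines a :=
    Quotient.lift (fun s => ⟨_, hmapT s⟩) (fun s t h => Subtype.ext ((hrel s t).1 h))
  have hf : Function.Bijective f := by
    constructor
    · intro x y
      induction x using Quotient.inductionOn' with
      | h s => induction y using Quotient.inductionOn' with
        | h t => exact fun h => Quotient.sound ((hrel s t).2 (congrArg Subtype.val h))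
    · rintro ⟨W, c, hc, rfl⟩
      obtain ⟨s, hs, e⟩ := D.exists_S_conj (Ne.symm hab) hc
      exact ⟨QuotientGroup.mk ⟨s, hs⟩, Subtype.ext e⟩
  obtain ⟨i, hi⟩ := hS2.index K
  exact ⟨i, by rw [← Nat.card_coe_set_eq, ← Nat.card_congr (Equiv.ofBijective f hf)]; exact hi⟩

end Data

end Cfsg.Agent.H48.Saturation
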