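import Cfsg.Agent.H48.Saturation.Basic
import Mathlib.GroupTheory.PGroup
import Mathlib.GroupTheory.Perm.Cycle.Type
import Mathlib.Data.Set.Card

/-!
# Saturation: lines

`line a b` is the fixed point set of the 2-part of the stabiliser of `a` and `b`.  An involution
moving `b` fixes exactly one point `c` of the line through `b` and its image and agrees there with
an element of `A c`.
-/

set_option autoImplicit false
set_option linter.unusedSectionVars false

namespace Cfsg.Agent.H48.Saturation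

open MulAction

universe u v

/-- An involution preserving an odd set fixes a point of it. -/
theorem exists_fix_of_odd {G Ω : Type*} [Group G] [MulAction G Ω] [Finite Ω] {y : G}
    (hy : y * y = 1) (s : Set Ω) (hs : ∀ c ∈ s, y • c ∈ s) (hodd : Odd s.ncard) :
    ∃ c ∈ s, y • c = c := by
  classical
  have := Fintype.ofFinite s
  have hinv : Function.Involutive (fun c : s => (⟨y • (c : Ω), hs c c.2⟩ : s)) :=
    fun c => Subtype.ext (by simp [← mul_smul, hy])
  let σ : Equiv.Perm s := Function.Involutive.toPerm _ hinv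
  obtain ⟨c, hc⟩ := Equiv.Perm.exists_fixed_point_of_prime (p := 2) (n := 1) (σ := σ)
    (by rw [← Nat.card_eq_fintype_card, Nat.card_coe_set_eq, ← even_iff_two_dvd]
        exact Nat.not_even_iff_odd.2 hodd)
    (Equiv.ext fun c => by rw [pow_one, sq]; exact hinv c)
  exact ⟨c, c.2, congrArg Subtype.val hc⟩

/-- An involution preserving an even set and fixing a point of it fixes another. -/
theorem exists_fix_of_even {G Ω : Type*} [Group G] [MulAction G Ω] [Finite Ω] {y : G}
    (hy : y * y = 1) (s : Set Ω) (hs : ∀ c ∈ s, y • c ∈ s) {a : Ω} (ha : a ∈ s) (hya : y • a = a)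
    (heven : Even s.ncard) : ∃ c ∈ s, c ≠ a ∧ y • c = c := by
  classical
  have := Fintype.ofFinite s
  have hinv : Function.Involutive (fun c : s => (⟨y • (c : Ω), hs c c.2⟩ : s)) :=
    fun c => Subtype.ext (by simp [← mul_smul, hy])
  let σ : Equiv.Perm s := Function.Involutive.toPerm _ hinv
  obtain ⟨c, hc, hca⟩ := Equiv.Perm.exists_fixed_point_of_prime' (p := 2) (n := 1) (σ := σ)
    (by rw [← Nat.card_eq_fintype_card, Nat.card_coe_set_eq]; exact even_iff_two_dvd.1 heven)
    (Equiv.ext fun c => by rw [pow_one, sq]; exact hinv c)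
    (a := ⟨a, ha⟩) (Subtype.ext hya)
  exact ⟨c, c.2, fun e => hca (Subtype.ext e), congrArg Subtype.val hc⟩

namespace Data

variable {G : Type u} {Ω : Type v} [Group G] [Finite G] [MulAction G Ω] [FaithfulSMul G Ω]
  [Finite Ω] (D : Data G Ω)

/-- The fixed points of `T a b`. -/
def line (a b : Ω) : Set Ω := {c | ∀ t ∈ D.T a b, t • c = c}

variable {D}

theorem left_mem_line (a b : Ω) : a ∈ D.line a b := fun _ ht => (mem_T.1 ht).1

theorem right_mem_line (a b : Ω) : b ∈ D.line a b := fun _ ht => (mem_T.1 ht).2.1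

variable (D)

theorem line_comm (a b : Ω) : D.line a b = D.line b a := by rw [line, line, D.T_comm]

theorem card_T_eq {a b c d : Ω} (hab : a ≠ b) (hcd : c ≠ d) :
    Nat.card (D.T a b) = Nat.card (D.T c d) := by
  have key : ∀ {a b c d : Ω}, a ≠ b → c ≠ d → Nat.card (D.T a b) ≤ Nat.card (D.T c d) := by
    intro a b c d hab hcd
    obtain ⟨g, hga, hgb⟩ := D.two hab hcd
    refine Nat.card_le_card_of_injective
      (fun t => (⟨g * (t : G) * g⁻¹, by rw [← hga, ← hgb]; exact D.T_conj g t.2⟩ : D.T c d)) ?_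
    intro s t h
    exact Subtype.ext (mul_left_cancel (mul_right_cancel (congrArg Subtype.val h)))
  exact le_antisymm (key hab hcd) (key hcd hab)

theorem T_eq {a b c d : Ω} (hab : a ≠ b) (hc : c ∈ D.line a b) (hd : d ∈ D.line a b)
    (hcd : c ≠ d) : D.T c d = D.T a b :=
  (Subgroup.eq_of_le_of_card_ge (fun t ht => mem_T.2 ⟨hc t ht, hd t ht, (mem_T.1 ht).2.2⟩)
    (D.card_T_eq hab hcd).ge).symm

theorem line_eq {a b c d : Ω} (hab : a ≠ b) (hc : c ∈ D.line a b) (hd : d ∈ D.line a b)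
    (hcd : c ≠ d) : D.line c d = D.line a b := by
  rw [line, line, D.T_eq hab hc hd hcd]

theorem smul_mem_line (g : G) {a b c : Ω} (hc : c ∈ D.line a b) :
    g • c ∈ D.line (g • a) (g • b) := by
  intro t ht
  have h : g⁻¹ * t * g ∈ D.T a b := by
    have := D.T_conj g⁻¹ ht
    rwa [inv_smul_smul, inv_smul_smul, inv_inv] at this
  calc t • g • c = g • ((g⁻¹ * t * g) • c) := by simp [mul_smul]
    _ = g • c := by rw [hc _ h]

theorem A_comm_line {a b e : Ω} (hab : a ≠ b) (he : e ∈ D.line a b) {z t : G} (hz : z ∈ D.A e)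
    (ht : t ∈ D.T a b) : z * t = t * z := by
  by_cases hea : e = a
  · subst hea; exact D.A_comm_T hz ht
  · exact D.A_comm_T hz (by rwa [D.T_eq hab he (left_mem_line a b) hea] : t ∈ D.T e a)

theorem A_line {a b e c : Ω} (hab : a ≠ b) (he : e ∈ D.line a b) {z : G} (hz : z ∈ D.A e)
    (hc : c ∈ D.line a b) : z • c ∈ D.line a b := by
  intro t ht
  rw [← mul_smul, ← D.A_comm_line hab he hz ht, mul_smul, hc t ht]

theorem centre_mem {a b c : Ω} (hab : a ≠ b) {z : G} (hz : z ∈ D.A c) (hzab : z • a = b) :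
    c ∈ D.line a b := by
  have hca : c ≠ a := fun e => hab (by rw [← hzab, ← e, hz.1])
  have hb : b ∈ D.line c a := hzab ▸ D.A_line hca (left_mem_line c a) hz (right_mem_line c a)
  rw [D.line_eq hca (right_mem_line c a) hb hab]
  exact left_mem_line c a

theorem odd_line (a b : Ω) : Odd (D.line a b).ncard := by
  have hP : IsPGroup 2 (D.T a b) := fun t => by
    obtain ⟨k, hk⟩ := (mem_T.1 t.2).2.2
    exact ⟨k, Subtype.ext (by simpa using hk)⟩
  have h := hP.card_modEq_card_fixedPoints Ω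
  have e : fixedPoints (D.T a b) Ω = D.line a b := by
    ext c
    exact ⟨fun hc t ht => hc ⟨t, ht⟩, fun hc t => hc t t.2⟩
  rw [e, Nat.card_coe_set_eq] at h
  rw [Nat.odd_iff, ← h]
  exact Nat.odd_iff.1 D.odd_pts

theorem invol_line {y : G} (hy : y * y = 1) {b c : Ω} (hc : c ∈ D.line b (y • b)) :
    y • c ∈ D.line b (y • b) := by
  have := D.smul_mem_line y hc
  rwa [← mul_smul, hy, one_smul, D.line_comm] at this

theorem exists_centre {y : G} (hy : y * y = 1) (b : Ω) :
    ∃ c ∈ D.line b (y • b), y • c = c :=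
  exists_fix_of_odd hy _ (fun _ hc => D.invol_line hy hc) (D.odd_line _ _)

theorem centre_unique {y : G} (hy : y * y = 1) {b c d : Ω} (hb : y • b ≠ b)
    (hc : c ∈ D.line b (y • b)) (hyc : y • c = c) (hd : d ∈ D.line b (y • b)) (hyd : y • d = d) :
    c = d := by
  by_contra hcd
  have : y ∈ D.T c d := mem_T.2 ⟨hyc, hyd, TwoEl.of_sq hy⟩
  rw [D.T_eq (Ne.symm hb) hc hd hcd] at this
  exact hb (mem_T.1 this).1

/-- An involution agrees with an element of `A c` on the line it inverts around `c`. -/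
theorem decomp (hA : ∀ c : Ω, ∃ z ∈ D.A c, z ≠ 1) {y : G} (hy : y * y = 1) {b c : Ω}
    (hb : y • b ≠ b) (hc : c ∈ D.line b (y • b)) (hyc : y • c = c) :
    ∃ z ∈ D.A c, z ≠ 1 ∧ (z * y) • b = b := by
  classical
  have hbb : b ≠ y • b := Ne.symm hb
  set L := D.line b (y • b) with hL
  have hbL : b ∈ L := left_mem_line _ _
  have hcb : c ≠ b := fun e => hb (e ▸ hyc)
  obtain ⟨z', hz', hz'1⟩ := hA b
  have hz'z' := (mem_A.1 hz').2.1
  set g := y * z' with hg
  have hgL : ∀ d ∈ L, g • d ∈ L := fun d hd => by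
    rw [hg, mul_smul]
    exact D.invol_line hy (D.A_line hbb hbL hz' hd)
  obtain ⟨o, ho, hw⟩ := exists_odd_twoEl g
  set w := g ^ o with hwdef
  have hpowL : ∀ (i : ℕ), ∀ d ∈ L, g ^ i • d ∈ L := by
    intro i
    induction i with
    | zero => simp
    | succ i ih => intro d hd; rw [pow_succ, mul_smul]; exact ih _ (hgL d hd)
  have hyi : y⁻¹ = y := inv_eq_of_mul_eq_one_right hy
  have hzi : z'⁻¹ = z' := inv_eq_of_mul_eq_one_right hz'z'
  have hinv : ∀ i : ℕ, y * g ^ i * y = (g ^ i)⁻¹ ∧ z' * g ^ i * z' = (g ^ i)⁻¹ := by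
    intro i
    have h1 : y * g * y⁻¹ = g⁻¹ := by
      rw [hg, mul_inv_rev, hyi, hzi, ← mul_assoc, hy, one_mul]
    have h2 : z' * g * z'⁻¹ = g⁻¹ := by
      rw [hg, mul_inv_rev, hyi, hzi, mul_assoc, mul_assoc, hz'z', mul_one]
    have e1 := conj_pow (i := i) (a := y) (b := g)
    have e2 := conj_pow (i := i) (a := z') (b := g)
    rw [h1, hyi, inv_pow] at e1
    rw [h2, hzi, inv_pow] at e2
    exact ⟨e1.symm, e2.symm⟩
  have hwT : ∀ d ∈ L, w • d = d := by
    by_contra hcon
    have hex : ∃ i : ℕ, ∀ d ∈ L, w ^ 2 ^ i • d = d := by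
      obtain ⟨k, hk⟩ := hw
      exact ⟨k, fun d _ => by rw [hk, one_smul]⟩
    have h0 : Nat.find hex ≠ 0 := fun e => hcon (by
      have := Nat.find_spec hex
      rwa [e, pow_zero, pow_one] at this)
    obtain ⟨j, hj⟩ := Nat.exists_eq_succ_of_ne_zero h0
    have hspec := Nat.find_spec hex
    rw [hj, pow_succ, mul_two, pow_add] at hspec
    apply Nat.find_min hex (show j < Nat.find hex by omega)
    set w' := w ^ 2 ^ j with hw'
    have hw'e : w' = g ^ (o * 2 ^ j) := by rw [hw', hwdef, ← pow_mul]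
    have hw'L : ∀ d ∈ L, w' • d ∈ L := fun d hd => hw'e ▸ hpowL _ d hd
    have hswap : ∀ d ∈ L, w'⁻¹ • d = w' • d := fun d hd => by
      rw [inv_smul_eq_iff, ← mul_smul, hspec d hd]
    have h1 : w' • c = c := by
      refine D.centre_unique hy hb (hw'L c hc) ?_ hc hyc
      calc y • w' • c = (y * w' * y) • (y • c) := by
            rw [← mul_smul, ← mul_smul, mul_assoc (y * w'), hy, mul_one]
        _ = w' • c := by rw [hyc, hw'e, (hinv _).1, ← hw'e, hswap c hc]
    have h2 : w' • b = b := by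
      refine D.A_fix_only hz' hz'1 ?_
      calc z' • w' • b = (z' * w' * z') • (z' • b) := by
            rw [← mul_smul, ← mul_smul, mul_assoc (z' * w'), hz'z', mul_one]
        _ = w' • b := by rw [hz'.1, hw'e, (hinv _).2, ← hw'e, hswap b hbL]
    have hT : w' ∈ D.T c b := mem_T.2 ⟨h1, h2, hw.pow _⟩
    rw [D.T_eq hbb hc hbL hcb] at hT
    exact fun d hd => hd w' hT
  obtain ⟨j, hj⟩ := ho
  have e : (g ^ j)⁻¹ * z' * ((g ^ j)⁻¹)⁻¹ = y * w := by
    have h2 : g ^ (2 * j) = g⁻¹ * w := by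
      rw [eq_inv_mul_iff_mul_eq, ← pow_succ', hwdef, hj]
    have h1 : z' * g * z' = g⁻¹ := by simpa using (hinv 1).2
    rw [inv_inv, inv_conj_pow hz'z' h1, h2, hg, mul_inv_rev, hyi, hzi, ← mul_assoc, ← mul_assoc,
      hz'z', one_mul]
  have hmem := D.A_conj (g ^ j)⁻¹ hz'
  rw [e] at hmem
  have hne : y * w ≠ 1 := e ▸ fun e' => hz'1 (conj_eq_one_iff.1 e')
  have hfix : (y * w) • c = c := by rw [mul_smul, hwT c hc, hyc]
  rw [← D.A_fix_only hmem hne hfix] at hmem
  refine ⟨y * w, hmem, hne, ?_⟩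
  rw [(hinv o).1, inv_smul_eq_iff]
  exact (hwT b hbL).symm

end Data

end Cfsg.Agent.H48.Saturation
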