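import Mathlib.GroupTheory.PGroup
import Mathlib.GroupTheory.QuotientGroup.Basic
import Mathlib.GroupTheory.Index
import Mathlib.Tactic.Group

/-!
# An involution with elementary centraliser, transitively permuted, avoids some maximal subgroup

Let `x` be an involution of a finite 2-group `P` whose centraliser has exponent 2 and suppose
automorphisms fixing `x` are transitive on `C(x) / ⟨x⟩` minus the identity.  Then some subgroup of
index 2 does not contain `x`.
-/

set_option autoImplicit false

namespace Cfsg.Agent.H48.Saturation

universe u

theorem exists_index_two_exp_two {P : Type u} [Group P] [Finite P] (h : ∀ c : P, c * c = 1)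
    {x : P} (hx : x ≠ 1) : ∃ N : Subgroup P, N.index = 2 ∧ x ∉ N := by
  classical
  have hcomm : ∀ a b : P, a * b = b * a := fun a b => by
    calc a * b = (a * b)⁻¹ := (inv_eq_of_mul_eq_one_right (h _)).symm
      _ = b * a := by
        rw [mul_inv_rev, inv_eq_of_mul_eq_one_right (h a), inv_eq_of_mul_eq_one_right (h b)]
  have : Finite (Subgroup P) :=
    Finite.of_injective (fun K : Subgroup P => (K : Set P)) SetLike.coe_injective
  obtain ⟨N, hN⟩ := Set.Finite.exists_maximal
    (s := {N : Subgroup P | x ∉ N}) (Set.toFinite _) ⟨⊥, by simpa using hx⟩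
  have hxN : x ∉ N := hN.prop
  refine ⟨N, Subgroup.index_eq_two_iff.2 ⟨x, fun g => ?_⟩, hxN⟩
  by_cases hg : g ∈ N
  · refine Or.inr ⟨hg, fun h1 => hxN ?_⟩
    have := N.mul_mem (N.inv_mem hg) h1
    rwa [inv_mul_cancel_left] at this
  · refine Or.inl ⟨?_, hg⟩
    -- the elements `n` and `n * g` form a subgroup larger than `N`
    let K : Subgroup P :=
      { carrier := {p | p ∈ N ∨ p * g ∈ N}
        one_mem' := Or.inl N.one_mem
        mul_mem' := by
          rintro p p' (hp | hp) (hp' | hp')
          · exact Or.inl (N.mul_mem hp hp')
          · exact Or.inr (by rw [mul_assoc]; exact N.mul_mem hp hp')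
          · exact Or.inr (by
              rw [mul_assoc, hcomm p' g, ← mul_assoc]; exact N.mul_mem hp hp')
          · refine Or.inl ?_
            have := N.mul_mem hp hp'
            rwa [show p * g * (p' * g) = p * (g * p') * g by group, hcomm g p',
              show p * (p' * g) * g = p * p' * (g * g) by group, h, mul_one] at this
        inv_mem' := by
          intro p hp
          rw [inv_eq_of_mul_eq_one_right (h p)]
          exact hp }
    have hxK : x ∈ K := by
      by_contra hxK
      have hle := hN.2 (show K ∈ {N : Subgroup P | x ∉ N} from hxK) (fun n hn => Or.inl hn)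
      exact hg (hle (Or.inr (by rw [h]; exact N.one_mem)))
    rcases hxK with h1 | h1
    · exact absurd h1 hxN
    · rwa [hcomm g x]

/-- The main lemma. -/
theorem exists_index_two {P : Type u} [Group P] [Finite P] (hP : IsPGroup 2 P) (x : P)
    (hx1 : x ≠ 1) (hxx : x * x = 1) (hel : ∀ c : P, c * x = x * c → c * c = 1)
    (htr : ∀ c d : P, c * x = x * c → d * x = x * d → c ≠ 1 → c ≠ x → d ≠ 1 → d ≠ x →
      ∃ σ : MulAut P, σ x = x ∧ (σ c = d ∨ σ c = d * x)) :
    ∃ N : Subgroup P, N.index = 2 ∧ x ∉ N := by
  classical
  induction hn : Nat.card P using Nat.strong_induction_on generalizing P with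
  | _ n ih =>
    by_cases hc : x ∈ Subgroup.center P
    · exact exists_index_two_exp_two (fun c => hel c (Subgroup.mem_center_iff.1 hc c)) hx1
    · have : Nontrivial P := ⟨⟨x, 1, hx1⟩⟩
      have hcn : Nontrivial (Subgroup.center P) := hP.center_nontrivial
      obtain ⟨z₀, hz₀⟩ := exists_ne (1 : Subgroup.center P)
      have hz₀1 : (z₀ : P) ≠ 1 := fun e => hz₀ (Subtype.ext e)
      have hzx : ∀ z : P, z ∈ Subgroup.center P → z ≠ x := fun z hz e => hc (e ▸ hz)
      have hcomm : ∀ z ∈ Subgroup.center P, ∀ p : P, z * p = p * z :=
        fun z hz p => (Subgroup.mem_center_iff.1 hz p).symm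
      have hσc : ∀ σ : MulAut P, ∀ z ∈ Subgroup.center P, σ z ∈ Subgroup.center P := by
        intro σ z hz
        refine Subgroup.mem_center_iff.2 fun p => ?_
        have := congrArg σ (Subgroup.mem_center_iff.1 hz (σ⁻¹ p))
        simpa using this
      -- the centraliser of `x` is the centre times `x`
      have hC : ∀ c : P, c * x = x * c → c ∈ Subgroup.center P ∨ c * x ∈ Subgroup.center P := by
        intro c hcx
        by_cases h1 : c = 1
        · exact Or.inl (h1 ▸ Subgroup.one_mem _)
        by_cases h2 : c = x
        · exact Or.inr (by rw [h2, hxx]; exact Subgroup.one_mem _)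
        obtain ⟨σ, -, hσ | hσ⟩ := htr z₀ c (hcomm _ z₀.2 x) hcx hz₀1 (hzx _ z₀.2) h1 h2
        · exact Or.inl (hσ ▸ hσc σ _ z₀.2)
        · exact Or.inr (hσ ▸ hσc σ _ z₀.2)
      let f := QuotientGroup.mk' (Subgroup.center P)
      have hfm : ∀ p : P, f p = 1 ↔ p ∈ Subgroup.center P := fun p => QuotientGroup.eq_one_iff p
      have hf1 : f x ≠ 1 := fun e => hc ((hfm x).1 e)
      have hlt : Nat.card (P ⧸ Subgroup.center P) < n := by
        rw [← hn, Subgroup.card_eq_card_quotient_mul_card_subgroup (Subgroup.center P)]
        exact lt_mul_of_one_lt_right Nat.card_pos (Finite.one_lt_card_iff_nontrivial.2 hcn)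
      have hfx : ∀ y : P, f y * f x = f x * f y →
          ∃ v ∈ Subgroup.center P, y * x = v * (x * y) := by
        intro y hy
        refine ⟨y * x * (x * y)⁻¹, (hfm _).1 ?_, by group⟩
        rw [map_mul, map_inv, map_mul, map_mul, hy, mul_inv_cancel]
      obtain ⟨N, hN, hxN⟩ := ih _ hlt (hP.to_quotient _) (f x) hf1 (by rw [← map_mul, hxx, map_one])
        (by
          intro c hcx
          obtain ⟨y, rfl⟩ := QuotientGroup.mk'_surjective _ c
          rw [← map_mul, hfm]
          obtain ⟨v, hv, hvy⟩ := hfx y hcx
          have hv2 : v * v = 1 := hel v (hcomm v hv x)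
          have hyy : y * y * x = x * (y * y) := by
            calc y * y * x = y * (y * x) := mul_assoc _ _ _
              _ = y * v * (x * y) := by rw [hvy, mul_assoc]
              _ = v * (y * x) * y := by rw [← hcomm v hv y]; group
              _ = v * (v * (x * y)) * y := by rw [hvy]
              _ = v * v * (x * (y * y)) := by group
              _ = x * (y * y) := by rw [hv2, one_mul]
          rcases hC _ hyy with h | h
          · exact h
          · exfalso
            have hyx : y * x = x * y := by
              have := hcomm _ h y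
              have h3 : y * y * x * y = y * y * (y * x) := by rw [this]; group
              exact (mul_left_cancel ((mul_assoc (y * y) x y).symm.trans h3)).symm
            rw [hel y hyx, one_mul] at h
            exact hc h)
        (by
          intro c d hcx hdx hc1 hcx' hd1 hdx'
          obtain ⟨y, rfl⟩ := QuotientGroup.mk'_surjective _ c
          obtain ⟨y', rfl⟩ := QuotientGroup.mk'_surjective _ d
          obtain ⟨v, hv, hvy⟩ := hfx y hcx
          obtain ⟨v', hv', hvy'⟩ := hfx y' hdx
          have hne : ∀ (p w : P), f p ≠ 1 → f p ≠ f x → p * x = w * (x * p) → w ≠ 1 := by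
            rintro p w hp hp' e rfl
            rw [one_mul] at e
            rcases hC p e with h | h
            · exact hp ((hfm p).2 h)
            · refine hp' ?_
              have h4 := (hfm _).2 h
              rw [map_mul] at h4
              rw [eq_inv_of_mul_eq_one_left h4, ← map_inv, inv_eq_of_mul_eq_one_right hxx]
          have hv1 := hne y v hc1 hcx' hvy
          have hv'1 := hne y' v' hd1 hdx' hvy'
          obtain ⟨σ, hσx, hσ⟩ := htr v v' (hcomm v hv x) (hcomm v' hv' x) hv1 (hzx v hv) hv'1
            (hzx v' hv')
          have hσv : σ v = v' := by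
            rcases hσ with h | h
            · exact h
            · refine absurd ?_ hc
              have := (Subgroup.center P).mul_mem ((Subgroup.center P).inv_mem hv') (hσc σ v hv)
              rwa [h, inv_mul_cancel_left] at this
          have hmap : (Subgroup.center P).map σ.toMonoidHom = Subgroup.center P := by
            refine le_antisymm ?_ fun p hp => ⟨σ⁻¹ p, hσc σ⁻¹ p hp, by simp⟩
            rintro _ ⟨p, hp, rfl⟩
            exact hσc σ p hp
          refine ⟨QuotientGroup.congr _ _ σ hmap, congrArg f hσx, ?_⟩
          show f (σ y) = f y' ∨ f (σ y) = f y' * f x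
          have e1 : σ y * x = v' * (x * σ y) := by
            have := congrArg σ hvy
            rwa [map_mul, map_mul, map_mul, hσx, hσv] at this
          have hcom : (y'⁻¹ * σ y) * x = x * (y'⁻¹ * σ y) := by
            have e2 : v' * x = y' * x * y'⁻¹ := by rw [hvy']; group
            calc (y'⁻¹ * σ y) * x = y'⁻¹ * ((v' * x) * σ y) := by
                  rw [mul_assoc, e1]; group
              _ = x * (y'⁻¹ * σ y) := by rw [e2]; group
          rcases hC _ hcom with h | h
          · refine Or.inl ?_
            have := (hfm _).2 h
            rw [map_mul, map_inv, inv_mul_eq_one] at this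
            exact this.symm
          · refine Or.inr ?_
            have := (hfm _).2 h
            rw [map_mul, map_mul, map_inv, mul_assoc, inv_mul_eq_one] at this
            rw [this, mul_assoc, ← map_mul, hxx, map_one, mul_one]) rfl
      exact ⟨N.comap f, by
        rw [Subgroup.index_comap_of_surjective _ (QuotientGroup.mk'_surjective _)]; exact hN, hxN⟩

end Cfsg.Agent.H48.Saturation
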