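import Cfsg.Agent.H48.Saturation.OrderTwo
import Cfsg.Agent.H48.Saturation.TwoLemma
import Cfsg.Agent.H25.InvolutionTransfer
import Cfsg.Agent.S0215

/-!
# Saturation: in a simple group no nontrivial 2-element fixes two points

If some `T a b` is nontrivial then, by Glauberman's Z*-theorem, each `A a` has at least three
elements, so `T a b` has order two, its involution lies outside a subgroup of index two of `S a`
together with all its conjugates in `S a`, and Thompson's transfer lemma contradicts simplicity.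
-/

set_option autoImplicit false
set_option linter.unusedSectionVars false

namespace Cfsg.Agent.H48.Saturation

open MulAction

universe u v

namespace Data

variable {G : Type u} {Ω : Type v} [Group G] [Finite G] [MulAction G Ω] [FaithfulSMul G Ω]
  [Finite Ω] {D : Data G Ω}

theorem exists_index_two_subgroup (hB : D.Bad) {a b : Ω} (hab : a ≠ b) {x : G} (hx : x ∈ D.T a b)
    (hx1 : x ≠ 1) :
    ∃ Q : Subgroup G, Q ≤ D.S a ∧ Q.relIndex (D.S a) = 2 ∧ ∀ s ∈ D.S a, s * x * s⁻¹ ∉ Q := by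
  classical
  have h2 := card_T_eq_two hB hab
  have hxx : x * x = 1 := T_sq hB hab hx
  have hT : ∀ t ∈ D.T a b, t = 1 ∨ t = x := by
    intro t ht
    by_contra hne
    push Not at hne
    have := Fintype.ofFinite (D.T a b)
    have h3 : 2 < Fintype.card (D.T a b) := Fintype.two_lt_card_iff.2
      ⟨1, ⟨x, hx⟩, ⟨t, ht⟩, fun e => hx1 (congrArg Subtype.val e).symm,
        fun e => hne.1 (congrArg Subtype.val e).symm, fun e => hne.2 (congrArg Subtype.val e).symm⟩
    rw [Nat.card_eq_fintype_card] at h2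
    omega
  let xS : D.S a := ⟨x, D.T_le_S a b hx⟩
  set A' : Subgroup (D.S a) := (D.A a).subgroupOf (D.S a)
  have hA' : A'.Normal := ⟨fun z hz s => Subgroup.mem_subgroupOf.2
    (D.A_conj_fix s.2.1 (Subgroup.mem_subgroupOf.1 hz))⟩
  set f := QuotientGroup.mk' A'
  have hfm : ∀ s : D.S a, f s = 1 ↔ (s : G) ∈ D.A a :=
    fun s => (QuotientGroup.eq_one_iff s).trans Subgroup.mem_subgroupOf
  have hfx : f xS ≠ 1 := fun e => hx1 (D.A_inf_T hab ((hfm xS).1 e) (mem_T.1 hx).2.1)
  have hfeq : ∀ s s' : D.S a, f s = f s' ↔ ∃ z ∈ D.A a, (s' : G) = s * z := by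
    intro s s'
    rw [← inv_mul_eq_one, ← map_inv, ← map_mul, hfm, Subgroup.coe_mul, Subgroup.coe_inv]
    exact ⟨fun h => ⟨_, h, (mul_inv_cancel_left _ _).symm⟩,
      fun ⟨z, hz, e⟩ => by rw [e, inv_mul_cancel_left]; exact hz⟩
  have hcommE : ∀ s ∈ D.S a, s * x = x * s → s ∈ D.E a b := by
    intro s hs hc
    refine mem_E_of_normalize hB hab hs (T_congr_of_mem hB hab (smul_ne hs.1 (Ne.symm hab)) hx ?_ hx1)
    rw [conj_T hs.1 (Ne.symm hab), mul_assoc, ← hc, inv_mul_cancel_left]
    exact hx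
  have hcent : ∀ s : D.S a, f s * f xS = f xS * f s →
      ∃ z ∈ D.A a, (s : G) * x * (s : G)⁻¹ = x * z := by
    intro s hs
    rw [← map_mul, ← map_mul] at hs
    obtain ⟨z, hz, e⟩ := (hfeq _ _).1 hs.symm
    simp only [Subgroup.coe_mul, xS] at e
    refine ⟨z, hz, ?_⟩
    rw [e, mul_assoc x, ← D.A_comm_S hz s.2, ← mul_assoc, mul_inv_cancel_right]
  have hE : ∀ s : D.S a, (s : G) ∈ D.E a b → f s = 1 ∨ f s = f xS := by
    intro s hs
    obtain ⟨t, ht, z, hz, e⟩ := hs
    rcases hT t ht with rfl | rfl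
    · exact Or.inl ((hfm s).2 (by rw [e, one_mul]; exact hz))
    · exact Or.inr ((hfeq xS s).2 ⟨z, hz, e⟩).symm
  have hel : ∀ c, c * f xS = f xS * c → c * c = 1 := by
    intro c hc
    obtain ⟨s, rfl⟩ := QuotientGroup.mk'_surjective A' c
    obtain ⟨z, hz, e⟩ := hcent s hc
    rw [← map_mul, hfm, Subgroup.coe_mul]
    set g := (s : G)
    have hgz : g * z * g⁻¹ = z := by rw [← D.A_comm_S hz s.2, mul_inv_cancel_right]
    have hgg : g * g * x = x * (g * g) := by
      rw [← mul_inv_eq_iff_eq_mul]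
      calc g * g * x * (g * g)⁻¹ = g * (g * x * g⁻¹) * g⁻¹ := by group
        _ = g * (x * z) * g⁻¹ := by rw [e]
        _ = (g * x * g⁻¹) * (g * z * g⁻¹) := by group
        _ = x * (z * z) := by rw [e, hgz, mul_assoc]
        _ = x := by rw [hz.2.1, mul_one]
    obtain ⟨t, ht, z', hz', e'⟩ := hcommE _ ((D.S a).mul_mem s.2 s.2) hgg
    rcases hT t ht with rfl | rfl
    · rw [e', one_mul]; exact hz'
    · exfalso
      have hxz : t = g * g * z' := by rw [e', mul_assoc, hz'.2.1, mul_one]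
      have hgx : g * t = t * g := by
        rw [hxz, show g * (g * g * z') = g * g * (g * z') by group,
          ← (show z' * g = g * z' from D.A_comm_S hz' s.2)]
        group
      obtain ⟨t', ht', z'', hz'', e''⟩ := hcommE g s.2 hgx
      refine hx1 (D.A_inf_T hab (?_ : t ∈ D.A a) (mem_T.1 hx).2.1)
      have : g * g = 1 := by
        rw [e'', show t' * z'' * (t' * z'') = t' * (z'' * t') * z'' by group, D.A_comm_T hz'' ht',
          show t' * (t' * z'') * z'' = t' * t' * (z'' * z'') by group, T_sq hB hab ht', hz''.2.1,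
          one_mul]
      rw [hxz, this, one_mul]
      exact hz'
  have htr : ∀ c d, c * f xS = f xS * c → d * f xS = f xS * d → c ≠ 1 → c ≠ f xS → d ≠ 1 →
      d ≠ f xS → ∃ σ : MulAut (D.S a ⧸ A'), σ (f xS) = f xS ∧ (σ c = d ∨ σ c = d * f xS) := by
    intro c d hc hd hc1 hcx hd1 hdx
    obtain ⟨s, rfl⟩ := QuotientGroup.mk'_surjective A' c
    obtain ⟨s', rfl⟩ := QuotientGroup.mk'_surjective A' d
    obtain ⟨z, hz, e⟩ := hcent s hc
    obtain ⟨z', hz', e'⟩ := hcent s' hd
    have hne : ∀ (r : D.S a) (w : G), f r ≠ 1 → f r ≠ f xS →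
        (r : G) * x * (r : G)⁻¹ = x * w → w ≠ 1 := by
      intro r w h1 h2 er hw
      rw [hw, mul_one, mul_inv_eq_iff_eq_mul] at er
      exact (hE r (hcommE r r.2 er)).elim h1 h2
    obtain ⟨g, hga, hgx, hgz⟩ : ∃ g : G, g • a = a ∧ g * x * g⁻¹ = x ∧ g * z * g⁻¹ = z' := by
      by_cases hzz : z = z'
      · exact ⟨1, one_smul _ _, by group, by rw [hzz]; group⟩
      · obtain ⟨g, hg, hgz⟩ := D.exists_rot_conj hB.hA hab hz (hne s z hc1 hcx e) hz'
          (hne s' z' hd1 hdx e') hzz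
        exact ⟨g, hg.fix_left, by rw [hg.comm_T hab hx, mul_inv_cancel_right], hgz⟩
    have hgi : g⁻¹ • a = a := inv_smul_eq_iff.2 hga.symm
    let φ : MulAut (D.S a) :=
      { toFun := fun r => ⟨g * r * g⁻¹, by have := D.S_conj g r.2; rwa [hga] at this⟩
        invFun := fun r => ⟨g⁻¹ * r * g, by
          have := D.S_conj g⁻¹ r.2; rwa [hgi, inv_inv] at this⟩
        left_inv := fun r => Subtype.ext (by simp [mul_assoc])
        right_inv := fun r => Subtype.ext (by simp [mul_assoc])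
        map_mul' := fun r r' => Subtype.ext (by simp [mul_assoc]) }
    have hmap : A'.map φ.toMonoidHom = A' := by
      refine Subgroup.eq_of_le_of_card_ge ?_
        (by rw [Subgroup.card_map_of_injective φ.injective])
      rintro _ ⟨r, hr, rfl⟩
      exact Subgroup.mem_subgroupOf.2 (D.A_conj_fix hga (Subgroup.mem_subgroupOf.1 hr))
    refine ⟨QuotientGroup.congr A' A' φ hmap, congrArg f (Subtype.ext hgx : φ xS = xS), ?_⟩
    show f (φ s) = f s' ∨ f (φ s) = f s' * f xS
    have hmem := hcommE (((s' : G))⁻¹ * (φ s : G))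
      ((D.S a).mul_mem ((D.S a).inv_mem s'.2) (φ s).2) (by
        show (s' : G)⁻¹ * (g * s * g⁻¹) * x = x * ((s' : G)⁻¹ * (g * s * g⁻¹))
        have hgx' : g⁻¹ * x * g = x := by
          nth_rw 1 [← hgx]
          group
        have e1 : (g * s * g⁻¹) * x * (g * s * g⁻¹)⁻¹ = x * z' := by
          calc _ = g * ((s : G) * (g⁻¹ * x * g) * (s : G)⁻¹) * g⁻¹ := by group
            _ = g * ((s : G) * x * (s : G)⁻¹) * g⁻¹ := by
              rw [hgx']
            _ = (g * x * g⁻¹) * (g * z * g⁻¹) := by rw [e]; group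
            _ = x * z' := by rw [hgx, hgz]
        rw [← e', mul_inv_eq_iff_eq_mul] at e1
        rw [mul_assoc, e1]; group)
    rcases hE ((s')⁻¹ * φ s) (by simpa using hmem) with h | h
    · exact Or.inl (by rw [map_mul, map_inv, inv_mul_eq_one] at h; exact h.symm)
    · exact Or.inr (by rw [map_mul, map_inv, inv_mul_eq_iff_eq_mul] at h; exact h)
  have hS2 : IsPGroup 2 (D.S a) := fun y => by
    obtain ⟨k, hk⟩ := y.2.2
    exact ⟨k, Subtype.ext (by simpa using hk)⟩
  obtain ⟨N, hN, hxN⟩ := exists_index_two (hS2.to_quotient A') (f xS) hfx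
    (by rw [← map_mul, hfm, Subgroup.coe_mul, hxx]; exact (D.A a).one_mem) hel htr
  refine ⟨(N.comap f).map (D.S a).subtype, Subgroup.map_subtype_le _, ?_, ?_⟩
  · rw [Subgroup.relIndex, Subgroup.subgroupOf, Subgroup.comap_map_eq_self_of_injective
      (Subgroup.subtype_injective _), Subgroup.index_comap_of_surjective _
      (QuotientGroup.mk'_surjective _), hN]
  · rintro s hs ⟨r, hr, hrs⟩
    have hr' : r = ⟨s, hs⟩ * xS * (⟨s, hs⟩ : D.S a)⁻¹ := Subtype.ext hrs
    have := Subgroup.normal_of_index_eq_two hN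
    rw [hr', SetLike.mem_coe, Subgroup.mem_comap, map_mul, map_mul, map_inv] at hr
    refine hxN ?_
    have h := this.conj_mem _ hr (f ⟨s, hs⟩)⁻¹
    simpa [mul_assoc] using h

theorem exists_sylow (a : Ω) : ∃ P : Sylow 2 G, (P : Subgroup G) = D.S a := by
  have hS2 : IsPGroup 2 (D.S a) := fun y => by
    obtain ⟨k, hk⟩ := y.2.2
    exact ⟨k, Subtype.ext (by simpa using hk)⟩
  obtain ⟨P, hP⟩ := hS2.exists_le_sylow
  refine ⟨P, le_antisymm ?_ hP⟩
  have h2 : ¬ 2 ∣ Nat.card Ω := fun h => Nat.not_even_iff_odd.2 D.odd_pts (even_iff_two_dvd.2 h)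
  obtain ⟨c, hc⟩ := P.isPGroup'.nonempty_fixed_point_of_prime_not_dvd_card Ω h2
  have hPc : (P : Subgroup G) ≤ D.S c := fun g hg => ⟨hc ⟨g, hg⟩, by
    obtain ⟨k, hk⟩ := P.isPGroup' ⟨g, hg⟩
    exact ⟨k, by simpa using congrArg Subtype.val hk⟩⟩
  have hle : Nat.card (D.S c) ≤ Nat.card (D.S a) := by
    by_cases hca : c = a
    · rw [hca]
    obtain ⟨g, hg, -⟩ := D.two hca (Ne.symm hca)
    refine Nat.card_le_card_of_injective
      (fun s => (⟨g * (s : G) * g⁻¹, hg ▸ D.S_conj g s.2⟩ : D.S a)) ?_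
    intro s t h
    exact Subtype.ext (mul_left_cancel (mul_right_cancel (congrArg Subtype.val h)))
  exact (Subgroup.eq_of_le_of_card_ge hP ((Subgroup.card_le_of_le hPc).trans hle)).ge

/-- In a simple group the two-point stabilisers have odd order. -/
theorem T_eq_bot [IsSimpleGroup G] {a b : Ω} (hab : a ≠ b) : D.T a b = ⊥ := by
  classical
  by_contra hne
  have hT : ∀ {c d : Ω}, c ≠ d → D.T c d ≠ ⊥ := fun {c d} hcd e => by
    have h1 := D.card_T_eq hab hcd
    rw [e, Subgroup.card_bot] at h1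
    exact hne (Subgroup.eq_bot_of_card_eq _ h1)
  have hA : ∀ c, ∃ z ∈ D.A c, z ≠ 1 := fun c => D.exists_A_ne_one hab hne c
  have hB : D.Bad := ⟨hT, fun c z hz hz1 => by
    by_contra hno
    push Not at hno
    -- otherwise `z` is isolated, hence central
    obtain ⟨P, hP⟩ := exists_sylow (D := D) c
    have hzo : orderOf z = 2 := orderOf_eq_prime (by rw [sq, hz.2.1]) hz1
    obtain ⟨N, hN, hNodd, hzN⟩ := S0215.result P z hzo (by
        show z ∈ (P : Subgroup G)
        rw [hP]; exact D.A_le_S c hz) fun g hg => by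
      have hg' : g * z * g⁻¹ ∈ D.S c := hP ▸ hg
      have hm := D.A_conj g hz
      have hne' : g * z * g⁻¹ ≠ 1 := fun e => hz1 (conj_eq_one_iff.1 e)
      rw [← D.A_fix_only hm hne' hg'.1] at hm
      exact hno _ hm hne'
    have hNb : N = ⊥ := hN.eq_bot_or_eq_top.resolve_right fun h => by
      rw [h, Subgroup.card_top] at hNodd
      exact Nat.not_even_iff_odd.2 hNodd
        (even_iff_two_dvd.2 (hzo ▸ orderOf_dvd_natCard z))
    obtain ⟨d, hd, -⟩ := D.exists_third c c
    obtain ⟨g, hg, -⟩ := D.two (Ne.symm hd) hd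
    have hzg : g * z * g⁻¹ = z := by
      have h1 := hzN g
      rw [hNb, Subgroup.mem_bot, mul_inv_eq_one, mul_inv_eq_iff_eq_mul] at h1
      rw [← h1, mul_inv_cancel_right]
    have hm := D.A_conj g hz
    rw [hzg, hg] at hm
    exact hd (D.A_fix_only hz hz1 hm.1)⟩
  obtain ⟨x, hx, hxx, hx1⟩ := exists_invol hB hab
  obtain ⟨Q, hQS, hQi, hQx⟩ := exists_index_two_subgroup hB hab hx hx1
  obtain ⟨P, hP⟩ := exists_sylow (D := D) a
  have hxQ : x ∉ Q := fun h => hQx 1 (D.S a).one_mem (by simpa using h)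
  rcases H25.thompson_transfer P Q (hP ▸ hQS) (hP ▸ hQi) x (orderOf_eq_prime (by rw [sq, hxx]) hx1)
      (hP ▸ D.T_le_S a b hx) hxQ with ⟨M, hM, hMi, hxM⟩ | ⟨g, hg⟩
  · rcases hM.eq_bot_or_eq_top with h | h
    · rw [h, Subgroup.index_bot] at hMi
      have h1 := three_le_card_A hB a
      have h2 := Subgroup.card_le_card_group (D.A a)
      omega
    · exact hxM (h ▸ Subgroup.mem_top x)
  · set y := g * x * g⁻¹
    have hy1 : y ≠ 1 := fun e => hx1 (conj_eq_one_iff.1 e)
    have hyT : y ∈ D.T (g • a) (g • b) := D.T_conj g hx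
    obtain ⟨c, hca, hc⟩ : ∃ c, c ≠ a ∧ y • c = c := by
      by_cases h : g • a = a
      · exact ⟨g • b, fun e => hab (MulAction.injective g (h.trans e.symm)), (mem_T.1 hyT).2.1⟩
      · exact ⟨g • a, h, (mem_T.1 hyT).1⟩
    have hyS : y ∈ D.S a := hQS hg
    have hyc : y ∈ D.T a c := mem_T.2 ⟨hyS.1, hc, hyS.2⟩
    obtain ⟨s, hs, he⟩ := D.exists_S_conj (Ne.symm hab) hca
    rw [← he] at hyc
    obtain ⟨t, ht, hty⟩ := hyc
    have htx : t = x := by
      by_contra hne'
      have := Fintype.ofFinite (D.T a b)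
      have h2 := card_T_eq_two hB hab
      rw [Nat.card_eq_fintype_card] at h2
      have h3 : 2 < Fintype.card (D.T a b) := Fintype.two_lt_card_iff.2
        ⟨1, ⟨x, hx⟩, ⟨t, ht⟩, fun e => hx1 (congrArg Subtype.val e).symm,
          fun e => hy1 (by
            rw [← hty, show t = 1 from (congrArg Subtype.val e).symm]; simp),
          fun e => hne' (congrArg Subtype.val e).symm⟩
      omega
    refine hQx s hs ?_
    rw [← htx]
    have : s * t * s⁻¹ = y := hty
    rw [this]
    exact hg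

end Data

end Cfsg.Agent.H48.Saturation
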