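import Cfsg.Agent.H48.Saturation.Blocks

/-!
# Saturation: the two-point 2-group has order two

The rotations at `(a, b)` act without fixed blocks besides that of `T a b`, so a block normalised by
the stabiliser of the first one has at least `|A a| - 1` companions, each giving `|T a b| - 1`
different lines in the first block, which has only `|A a| - 1` lines besides `T a b`.
-/

set_option autoImplicit false
set_option linter.unusedSectionVars false

namespace Cfsg.Agent.H48.Saturation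

open MulAction

universe u v

namespace Data

variable {G : Type u} {Ω : Type v} [Group G] [Finite G] [MulAction G Ω] [FaithfulSMul G Ω]
  [Finite Ω] {D : Data G Ω}

theorem mem_map_conj_iff {P : Subgroup G} {s x : G} :
    x ∈ P.map (MulAut.conj s).toMonoidHom ↔ s⁻¹ * x * s ∈ P := by
  constructor
  · rintro ⟨y, hy, rfl⟩
    simpa [mul_assoc] using hy
  · exact fun h => ⟨_, h, by simp [mul_assoc]⟩

theorem map_conj_T {g : G} {a c : Ω} (hga : g • a = a) (hc : c ≠ a) :
    (D.T a c).map (MulAut.conj g).toMonoidHom = D.T a (g • c) := by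
  ext x
  rw [conj_T hga hc, mem_map_conj_iff]

theorem map_conj_E {g : G} {a c : Ω} (hga : g • a = a) (hc : c ≠ a) :
    (D.E a c).map (MulAut.conj g).toMonoidHom = D.E a (g • c) := by
  ext x
  rw [conj_E hga hc, mem_map_conj_iff]

theorem rot_normalizer_E {a b : Ω} (hab : a ≠ b) {g : G} (hg : D.IsRot a b g) :
    g ∈ Subgroup.normalizer (D.E a b : Set G) := by
  refine Subgroup.mem_normalizer_iff.2 fun x => ?_
  show x ∈ D.E a b ↔ g * x * g⁻¹ ∈ D.E a b
  conv_rhs => rw [← hg.fix_right, conj_E hg.fix_left (Ne.symm hab)]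
  rw [show g⁻¹ * (g * x * g⁻¹) * g = x by group]

theorem rot_normalizer_T {a b : Ω} (hab : a ≠ b) {g : G} (hg : D.IsRot a b g) :
    g ∈ Subgroup.normalizer (D.T a b : Set G) := by
  refine Subgroup.mem_normalizer_iff.2 fun x => ?_
  show x ∈ D.T a b ↔ g * x * g⁻¹ ∈ D.T a b
  conv_rhs => rw [← hg.fix_right, conj_T hg.fix_left (Ne.symm hab)]
  rw [show g⁻¹ * (g * x * g⁻¹) * g = x by group]

/-- A 2-element fixing `a` and centralising a rotation fixes `b`. -/
theorem rot_comm_S (hB : D.Bad) {a b : Ω} (hab : a ≠ b) {g s : G} (hg : D.IsRot a b g)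
    (hs : s ∈ D.S a) (hc : g * s = s * g) : s ∈ D.T a b := by
  have hl : s • b ∈ D.line a b :=
    hg.fix_line hab (by rw [← mul_smul, hc, mul_smul, hg.fix_right])
  obtain ⟨t, ht, z, hz, rfl⟩ := mem_E_of_normalize hB hab hs
    ((D.T_eq_iff (Ne.symm hab) (smul_ne hs.1 (Ne.symm hab))).2 hl)
  have hgz : g * z = z * g := by
    refine mul_left_cancel (a := t) ?_
    calc t * (g * z) = g * (t * z) := by rw [← mul_assoc, ← hg.comm_T hab ht, mul_assoc]
      _ = t * (z * g) := by rw [hc, mul_assoc]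
  rw [hg.no_comm hab hz hgz, mul_one]
  exact ht

/-- A rotation normalises no other conjugate under `S a` of a subgroup that it normalises with
`T a b`. -/
theorem rot_fix (hB : D.Bad) {a b : Ω} (hab : a ≠ b) {g : G} (hg : D.IsRot a b g) (P : Subgroup G)
    (hT : D.T a b ≤ Subgroup.normalizer (P : Set G)) (hgP : g ∈ Subgroup.normalizer (P : Set G))
    {s : G} (hs : s ∈ D.S a)
    (hfix : g ∈ Subgroup.normalizer (P.map (MulAut.conj s).toMonoidHom : Set G)) :
    P.map (MulAut.conj s).toMonoidHom = P := by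
  set N := D.S a ⊓ Subgroup.normalizer (P : Set G) with hN
  have hgS : g ∈ Subgroup.normalizer (D.S a : Set G) := by
    refine Subgroup.mem_normalizer_iff.2 fun x => ⟨fun hx => ?_, fun hx => ?_⟩
    · have := D.S_conj g (show x ∈ D.S a from hx); rwa [hg.fix_left] at this
    · have := D.S_conj g⁻¹ (show g * x * g⁻¹ ∈ D.S a from hx)
      rw [inv_smul_eq_iff.2 hg.fix_left.symm, inv_inv] at this
      rwa [show g⁻¹ * (g * x * g⁻¹) * g = x by group] at this
  have hgN : g ∈ Subgroup.normalizer (N : Set G) := by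
    refine Subgroup.mem_normalizer_iff.2 fun x => ?_
    show x ∈ N ↔ g * x * g⁻¹ ∈ N
    rw [hN, Subgroup.mem_inf, Subgroup.mem_inf]
    refine and_congr (Subgroup.mem_normalizer_iff.1 hgS x) ⟨fun hx => ?_, fun hx => ?_⟩
    · exact (Subgroup.normalizer _).mul_mem ((Subgroup.normalizer _).mul_mem hgP hx)
        ((Subgroup.normalizer _).inv_mem hgP)
    · have := (Subgroup.normalizer (P : Set G)).mul_mem
        ((Subgroup.normalizer _).mul_mem ((Subgroup.normalizer _).inv_mem hgP) hx) hgP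
      rwa [show g⁻¹ * (g * x * g⁻¹) * g = x by group] at this
  have hcop : (Nat.card (Subgroup.zpowers g)).Coprime (Nat.card (D.S a)) := by
    have hS2 : IsPGroup 2 (D.S a) := fun y => by
      obtain ⟨k, hk⟩ := y.2.2
      exact ⟨k, Subtype.ext (by simpa using hk)⟩
    obtain ⟨n, hn⟩ := IsPGroup.iff_card.1 hS2
    rw [Nat.card_zpowers, hn]
    exact Nat.Coprime.pow_right n (Nat.coprime_two_right.2 (hg.odd_order hab))
  obtain ⟨c, ⟨hcS, hcg⟩, hsc⟩ := Coprime.exists_centralizer_mem_coset (A := Subgroup.zpowers g)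
    (K := D.S a) (N := N) (Subgroup.zpowers_le.2 hgS) hcop
    (Or.inl (Coprime.isSolvable_zpowers g)) inf_le_left (Subgroup.zpowers_le.2 hgN) hs
    (fun h hh => by
      have hhP : h ∈ Subgroup.normalizer (P : Set G) := Subgroup.zpowers_le.2 hgP hh
      have hhm : h ∈ Subgroup.normalizer (P.map (MulAut.conj s).toMonoidHom : Set G) :=
        Subgroup.zpowers_le.2 hfix hh
      have hha : h • a = a :=
        (Subgroup.zpowers_le.2 (show g ∈ stabilizer G a from hg.fix_left) hh :)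
      refine ⟨(D.S a).mul_mem ((D.S a).inv_mem hs) (by have := D.S_conj h hs; rwa [hha] at this), ?_⟩
      have key : s⁻¹ * h * s ∈ Subgroup.normalizer (P : Set G) := by
        refine Subgroup.mem_normalizer_iff.2 fun x => ?_
        show x ∈ P ↔ _ ∈ P
        have e := Subgroup.mem_normalizer_iff.1 hhm (s * x * s⁻¹)
        rw [mem_map_conj_iff, mem_map_conj_iff,
          show s⁻¹ * (s * x * s⁻¹) * s = x by group] at e
        rw [e, show s⁻¹ * (h * (s * x * s⁻¹) * h⁻¹) * s =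
          s⁻¹ * h * s * x * (s⁻¹ * h * s)⁻¹ by group]
      rw [show s⁻¹ * (h * s * h⁻¹) = s⁻¹ * h * s * h⁻¹ by group]
      exact (Subgroup.normalizer _).mul_mem key ((Subgroup.normalizer _).inv_mem hhP))
  have hcT := rot_comm_S hB hab hg hcS
    (Subgroup.mem_centralizer_iff.1 hcg g (Subgroup.mem_zpowers g))
  have hsP : s ∈ Subgroup.normalizer (P : Set G) := by
    have := (Subgroup.normalizer (P : Set G)).mul_mem (hT hcT)
      ((Subgroup.normalizer _).inv_mem hsc.2)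
    rwa [mul_inv_rev, inv_inv, mul_inv_cancel_left] at this
  ext x
  rw [mem_map_conj_iff]
  have := Subgroup.mem_normalizer_iff.1 hsP (s⁻¹ * x * s)
  rwa [show s * (s⁻¹ * x * s) * s⁻¹ = x by group] at this

theorem rot_of_swaps {a b : Ω} {z₀ w w' : G} (hz₀ : z₀ ∈ D.swaps a b)
    (hw : w ∈ D.swaps a b) (hw' : w' ∈ D.swaps a b) (hne : w ≠ w') :
    D.IsRot a b ((w * z₀)⁻¹ * (w' * z₀)) := by
  obtain ⟨c₀, hc₀, h₀⟩ := id hz₀
  have hi : z₀⁻¹ = z₀ := inv_eq_of_mul_eq_one_right hc₀.2.1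
  have hconj : ∀ x ∈ D.swaps a b, z₀ * x * z₀⁻¹ ∈ D.swaps a b := fun x hx => by
    obtain ⟨d, hd, hdx⟩ := id hx
    refine ⟨z₀ • d, D.A_conj z₀ hd, ?_⟩
    rw [hi, mul_smul, mul_smul, h₀, swaps_back hx, h₀]
  refine ⟨_, hconj w hw, _, hconj w' hw', fun e => hne (mul_left_cancel (mul_right_cancel e)), ?_⟩
  rw [mul_inv_rev, inv_eq_of_mul_eq_one_right (swaps_sq hw), hi]
  calc z₀ * w * (w' * z₀) = z₀ * w * (z₀ * z₀) * w' * z₀ := by rw [swaps_sq hz₀]; group
    _ = z₀ * w * z₀ * (z₀ * w' * z₀) := by group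

/-- The block of `T a b` has at most `|A a|` lines. -/
theorem card_block_le (hB : D.Bad) {a b : Ω} (hab : a ≠ b) :
    {W | W ∈ D.lines a ∧ W ≤ D.E a b ∧ W ≠ D.T a b}.ncard + 1 ≤ Nat.card (D.A a) := by
  classical
  obtain ⟨x, hx, hx1⟩ : ∃ x ∈ D.T a b, x ≠ 1 := by
    by_contra h; push Not at h; exact hB.T_ne hab ((Subgroup.eq_bot_iff_forall _).2 h)
  set L := {W | W ∈ D.lines a ∧ W ≤ D.E a b ∧ W ≠ D.T a b}
  have hex : ∀ W ∈ L, ∃ e, e ∈ D.A a ∧ e ≠ 1 ∧ e * x ∈ W := by
    rintro W ⟨⟨c, hc, rfl⟩, hle, hne⟩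
    have hE : D.E a c = D.E a b := by
      refine Subgroup.eq_of_le_of_card_ge ?_ (card_E_eq hab hc).le
      rintro g ⟨t, ht, z, hz, rfl⟩
      exact (D.E a b).mul_mem (hle ht) (A_le_E a b hz)
    obtain ⟨w, hw, e, he, hxe⟩ := (hE ▸ T_le_E a b hx : x ∈ D.E a c)
    refine ⟨e, he, fun e1 => hne ?_, ?_⟩
    · exact T_congr_of_mem hB hab hc hx (by rw [hxe, e1, mul_one]; exact hw) hx1
    · rw [hxe, ← mul_assoc, D.A_comm_T he hw, mul_assoc, he.2.1, mul_one]; exact hw
  have key : L.ncard ≤ ((D.A a : Set G) \ {1}).ncard := by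
    let f : Subgroup G → G := fun W => if h : W ∈ L then (hex W h).choose else 1
    have hf : ∀ W ∈ L, f W ∈ D.A a ∧ f W ≠ 1 ∧ f W * x ∈ W := fun W h => by
      simp only [f, dif_pos h]; exact (hex W h).choose_spec
    refine Set.ncard_le_ncard_of_injOn f (fun W h => ⟨(hf W h).1, (hf W h).2.1⟩) ?_ (Set.toFinite _)
    intro W hW V hV heq
    obtain ⟨c, hc, rfl⟩ := hW.1
    obtain ⟨d, hd, rfl⟩ := hV.1
    obtain ⟨h1, h2, h3⟩ := hf _ hW
    have h4 := (hf _ hV).2.2
    rw [← heq] at h4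
    refine (T_congr_of_mem hB (Ne.symm hc) hd h3 h4 fun e => ?_).symm
    refine h2 (D.A_inf_T hab h1 ?_)
    have : f (D.T a c) = x⁻¹ := eq_inv_of_mul_eq_one_left e
    rw [this, inv_smul_eq_iff]
    exact (mem_T.1 hx).2.1.symm
  have := Set.ncard_diff_singleton_add_one (show (1 : G) ∈ (D.A a : Set G) from (D.A a).one_mem)
    (Set.toFinite _)
  rw [← Nat.card_coe_set_eq (D.A a : Set G)] at this
  change _ ≤ Nat.card ((D.A a : Set G) : Type _)
  omega

theorem exists_invol (hB : D.Bad) {a b : Ω} (hab : a ≠ b) :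
    ∃ x ∈ D.T a b, x * x = 1 ∧ x ≠ 1 := by
  by_contra h
  push Not at h
  exact hB.T_ne hab ((Subgroup.eq_bot_iff_forall _).2 fun x hx => h x hx (T_sq hB hab hx))

/-- The 2-part of a two-point stabiliser has order two. -/
theorem card_T_eq_two (hB : D.Bad) {a b : Ω} (hab : a ≠ b) : Nat.card (D.T a b) = 2 := by
  classical
  obtain ⟨x, hx, hxx, hx1⟩ := exists_invol hB hab
  obtain ⟨-, hR, -⟩ := counting hB hab hx hxx hx1
  set M := D.S a ⊓ Subgroup.normalizer (D.E a b : Set G) with hM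
  have hEM : D.E a b ≤ M := fun g hg => ⟨E_le_S a b hg, Subgroup.le_normalizer hg⟩
  have hblock := card_block_le hB hab
  have hMlt : M.subgroupOf (D.S a) < ⊤ := by
    rw [lt_top_iff_ne_top, Ne, Subgroup.subgroupOf_eq_top]
    intro hle
    have hsub : D.lines a \ {D.T a b} ⊆ {W | W ∈ D.lines a ∧ W ≤ D.E a b ∧ W ≠ D.T a b} := by
      rintro W ⟨⟨c, hc, rfl⟩, hne⟩
      refine ⟨⟨c, hc, rfl⟩, ?_, hne⟩
      obtain ⟨s, hs, e⟩ := D.exists_S_conj (Ne.symm hab) hc
      rw [← e]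
      rintro _ ⟨t, ht, rfl⟩
      exact (Subgroup.mem_normalizer_iff.1 (hle hs).2 t).1 (T_le_E a b ht)
    have h1 := Set.ncard_le_ncard hsub (Set.toFinite _)
    have h2 := Set.ncard_diff_singleton_add_one
      (show D.T a b ∈ D.lines a from ⟨b, Ne.symm hab, rfl⟩) (Set.toFinite _)
    omega
  have hS2 : IsPGroup 2 (D.S a) := fun y => by
    obtain ⟨k, hk⟩ := y.2.2
    exact ⟨k, Subtype.ext (by simpa using hk)⟩
  have : Group.IsNilpotent (D.S a) := hS2.isNilpotent
  obtain ⟨⟨y, hy⟩, hyN, hyM⟩ := SetLike.exists_of_lt (Group.normalizerCondition_of_isNilpotent _ hMlt)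
  rw [Subgroup.mem_subgroupOf] at hyM
  have hby : y • b ≠ a := smul_ne hy.1 (Ne.symm hab)
  have hE' : D.E a (y • b) ≤ M := by
    intro e he
    rw [conj_E hy.1 (Ne.symm hab)] at he
    have h1 := (Subgroup.mem_normalizer_iff.1 hyN
      (⟨y⁻¹ * e * y, E_le_S a b he⟩ : D.S a)).1 (Subgroup.mem_subgroupOf.2 (hEM he))
    have := Subgroup.mem_subgroupOf.1 h1
    simpa [mul_assoc] using this
  have hEne : D.E a (y • b) ≠ D.E a b := fun e => hyM ⟨hy, Subgroup.mem_normalizer_iff.2 fun g => by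
    show g ∈ D.E a b ↔ y * g * y⁻¹ ∈ D.E a b
    conv_rhs => rw [← e, conj_E hy.1 (Ne.symm hab)]
    rw [show y⁻¹ * (y * g * y⁻¹) * y = g by group]⟩
  obtain ⟨z₀, hz₀⟩ := D.exists_swap hB.hA hab
  have hga : ∀ w ∈ D.swaps a b, (w * z₀) • a = a ∧ (w * z₀) • b = b := fun w hw => by
    obtain ⟨c₀, -, h₀⟩ := id hz₀
    obtain ⟨c, -, h⟩ := id hw
    exact ⟨by rw [mul_smul, h₀, swaps_back hw], by rw [mul_smul, swaps_back hz₀, h]⟩
  have hEg : ∀ w ∈ D.swaps a b, ∀ g : G, g ∈ D.E a b ↔ (w * z₀)⁻¹ * g * (w * z₀) ∈ D.E a b :=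
    fun w hw g => by
      conv_lhs => rw [← (hga w hw).2, conj_E (hga w hw).1 (Ne.symm hab)]
  -- blocks moved by different rotations differ
  have hblocks : ∀ w ∈ D.swaps a b, ∀ w' ∈ D.swaps a b,
      D.E a ((w * z₀) • y • b) = D.E a ((w' * z₀) • y • b) → w = w' := by
    intro w hw w' hw' he
    by_contra hne
    have hr := rot_of_swaps hz₀ hw hw' hne
    refine hEne ?_
    rw [← map_conj_E hy.1 (Ne.symm hab)]
    refine rot_fix hB hab hr _ (fun t ht => Subgroup.le_normalizer (T_le_E a b ht))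
      (rot_normalizer_E hab hr) hy ?_
    rw [map_conj_E hy.1 (Ne.symm hab)]
    refine Subgroup.mem_normalizer_iff.2 fun g => ?_
    show g ∈ D.E a (y • b) ↔ _ ∈ D.E a (y • b)
    have e1 : ∀ v ∈ D.swaps a b, ∀ g : G,
        g ∈ D.E a (y • b) ↔ (v * z₀) * g * (v * z₀)⁻¹ ∈ D.E a ((v * z₀) • y • b) := fun v hv g => by
      rw [conj_E (hga v hv).1 hby,
        show (v * z₀)⁻¹ * (v * z₀ * g * (v * z₀)⁻¹) * (v * z₀) = g by group]
    rw [e1 w' hw' g, ← he, e1 w hw ((w * z₀)⁻¹ * (w' * z₀) * g * ((w * z₀)⁻¹ * (w' * z₀))⁻¹)]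
    rw [show w * z₀ * ((w * z₀)⁻¹ * (w' * z₀) * g * ((w * z₀)⁻¹ * (w' * z₀))⁻¹) * (w * z₀)⁻¹ =
      w' * z₀ * g * (w' * z₀)⁻¹ by group]
  set L := {W | W ∈ D.lines a ∧ W ≤ D.E a b ∧ W ≠ D.T a b}
  let conjE : D.swaps a b → {e : G // e ∈ D.T a (y • b) ∧ e ≠ 1} → G := fun w e =>
    (w : G) * z₀ * e * ((w : G) * z₀)⁻¹
  have hce : ∀ (w : D.swaps a b) e, conjE w e ∈ D.T a (((w : G) * z₀) • y • b) ∧ conjE w e ≠ 1 ∧
      conjE w e ∈ M := by
    intro w e
    have hmem : conjE w e ∈ D.T a (((w : G) * z₀) • y • b) := by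
      have := D.T_conj ((w : G) * z₀) e.2.1
      rwa [(hga w w.2).1] at this
    refine ⟨hmem, fun h => e.2.2 (conj_eq_one_iff.1 h), D.T_le_S _ _ hmem, ?_⟩
    refine Subgroup.mem_normalizer_iff.2 fun g => ?_
    show g ∈ D.E a b ↔ conjE w e * g * (conjE w e)⁻¹ ∈ D.E a b
    rw [hEg w w.2 g, hEg w w.2 (conjE w e * g * (conjE w e)⁻¹)]
    have := Subgroup.mem_normalizer_iff.1 (hE' (T_le_E _ _ e.2.1)).2
      (((w : G) * z₀)⁻¹ * g * ((w : G) * z₀))
    rw [this]
    simp only [conjE]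
    group
  have hfne : ∀ w e, conjE w e • b ≠ a := fun w e => smul_ne (hce w e).2.2.1.1 (Ne.symm hab)
  let f : D.swaps a b × {e : G // e ∈ D.T a (y • b) ∧ e ≠ 1} → L := fun p =>
    ⟨D.T a (conjE p.1 p.2 • b), ⟨_, hfne p.1 p.2, rfl⟩, by
      intro g hg
      rw [conj_T (hce p.1 p.2).2.2.1.1 (Ne.symm hab)] at hg
      have := (Subgroup.mem_normalizer_iff.1 (hce p.1 p.2).2.2.2 _).1 (T_le_E a b hg)
      simpa [mul_assoc] using this, fun e => by
      have h1 := mem_E_of_normalize hB hab (hce p.1 p.2).2.2.1 e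
      have hc1 : ((p.1 : G) * z₀) • y • b ≠ a := smul_ne (hga _ p.1.2).1 hby
      have h2 := E_eq_of_mem hB (Ne.symm hc1) (Ne.symm hab) (hce p.1 p.2).1 (hce p.1 p.2).2.1 h1
      refine hEne (Subgroup.ext fun g => ?_)
      have h3 := SetLike.ext_iff.1 h2 ((p.1 : G) * z₀ * g * ((p.1 : G) * z₀)⁻¹)
      rw [conj_E (hga _ p.1.2).1 hby, hEg _ p.1.2] at h3
      simpa [mul_assoc] using h3.symm⟩
  have hinj : Function.Injective f := by
    rintro ⟨w, e⟩ ⟨w', e'⟩ h
    have hW : D.T a (conjE w e • b) = D.T a (conjE w' e' • b) := congrArg Subtype.val h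
    have hc1 : ((w : G) * z₀) • y • b ≠ a := smul_ne (hga _ w.2).1 hby
    have hc2 : ((w' : G) * z₀) • y • b ≠ a := smul_ne (hga _ w'.2).1 hby
    obtain ⟨he, he1, heM⟩ := hce w e
    obtain ⟨hf, hf1, hfM⟩ := hce w' e'
    have hee := T_sq hB (Ne.symm hc1) he
    have hff := T_sq hB (Ne.symm hc2) hf
    have hs : (conjE w' e')⁻¹ * conjE w e ∈ D.S a :=
      (D.S a).mul_mem ((D.S a).inv_mem hfM.1) heM.1
    have hsT : D.T a (((conjE w' e')⁻¹ * conjE w e) • b) = D.T a b := by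
      ext g
      rw [mul_smul, conj_T (inv_smul_eq_iff.2 hfM.1.1.symm) (hfne w e), hW,
        conj_T hfM.1.1 (Ne.symm hab)]
      group
    obtain ⟨t, ht, z, hz, hfe⟩ := mem_E_of_normalize hB hab hs hsT
    have hev : conjE w e = conjE w' e' * (t * z) := by rw [← hfe, mul_inv_cancel_left]
    set F := conjE w' e'
    set E₁ := conjE w e
    have hzc : z * (F * t) = F * t * z :=
      D.A_comm_S hz ((D.S a).mul_mem hfM.1 (D.T_le_S a b ht))
    have hFt : F * t = t * F := by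
      have h1 : F * t * (F * t) = 1 := by
        calc F * t * (F * t) = F * t * (F * t) * (z * z) := by rw [hz.2.1, mul_one]
          _ = F * t * ((F * t) * z) * z := by group
          _ = F * t * (z * (F * t)) * z := by rw [hzc]
          _ = E₁ * E₁ := by rw [hev]; group
          _ = 1 := hee
      calc F * t = (F * t)⁻¹ := (inv_eq_of_mul_eq_one_right h1).symm
        _ = t * F := by
          rw [mul_inv_rev, inv_eq_of_mul_eq_one_right (T_sq hB hab ht),
            inv_eq_of_mul_eq_one_right hff]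
    have ht1 : t = 1 := by
      by_contra ht1
      refine (f (w', e')).2.2.2 (T_congr_of_mem hB hab (hfne w' e') ht ?_ ht1)
      rw [conj_T hfM.1.1 (Ne.symm hab)]
      show F⁻¹ * t * F ∈ D.T a b
      rw [mul_assoc, ← hFt, inv_mul_cancel_left]
      exact ht
    rw [ht1, one_mul] at hev
    by_cases hz1 : z = 1
    · rw [hz1, mul_one] at hev
      have hT := T_congr_of_mem hB (Ne.symm hc1) hc2 he (by rw [hev]; exact hf) he1
      have hw : w = w' := Subtype.ext (hblocks w w.2 w' w'.2 (E_congr hT.symm))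
      subst hw
      exact Prod.ext rfl (Subtype.ext (mul_left_cancel (mul_right_cancel hev)))
    · exfalso
      have hzF : z * F = E₁ := by rw [hev, ← D.A_comm_S hz hfM.1]
      have hEeq := E_eq_of_other hB (Ne.symm hc2) hc1 hf hf1 hz (hzF ▸ he)
      have hw : w = w' := Subtype.ext (hblocks w w.2 w' w'.2 hEeq)
      subst hw
      refine hz1 (D.A_inf_T (Ne.symm hc1) hz ?_)
      have h4 := (D.T a _).mul_mem (hzF ▸ he) ((D.T a _).inv_mem hf)
      rw [mul_inv_cancel_right] at h4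
      exact (mem_T.1 h4).2.1
  have hcard := Nat.card_le_card_of_injective f hinj
  rw [Nat.card_prod] at hcard
  have h1 := D.card_swaps hab
  have h2 : Nat.card {e : G // e ∈ D.T a (y • b) ∧ e ≠ 1} + 1 = Nat.card (D.T a b) := by
    rw [card_nonone, D.card_T_eq hab (Ne.symm hby)]
  have h3 : 1 < Nat.card (D.T a b) := by
    rw [Finite.one_lt_card_iff_nontrivial, Subgroup.nontrivial_iff_ne_bot]
    exact hB.T_ne hab
  rw [Nat.card_coe_set_eq L] at hcard
  have h4 := three_le_card_A hB a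
  by_contra hne
  have : Nat.card (D.swaps a b) * 2 ≤
      Nat.card (D.swaps a b) * Nat.card {e : G // e ∈ D.T a (y • b) ∧ e ≠ 1} :=
    Nat.mul_le_mul_left _ (by omega)
  omega

end Data

end Cfsg.Agent.H48.Saturation
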