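import Cfsg.Agent.H48.Saturation.Lines
import Mathlib.SetTheory.Cardinal.Finite

/-!
# Saturation: products of two elements swapping the same pair

For a pair `a ≠ b` exactly `|A a| - 1` elements of the `A c` map `a` to `b`; products of two of
them centralise `T a b`, fix only points of the line, and are transitive on `A a` minus `1`.
-/

set_option autoImplicit false
set_option linter.unusedSectionVars false

namespace Cfsg.Agent.H48.Saturation

open MulAction

universe u v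

namespace Data

variable {G : Type u} {Ω : Type v} [Group G] [Finite G] [MulAction G Ω] [FaithfulSMul G Ω]
  [Finite Ω] (D : Data G Ω)

/-- The elements of the `A c` carrying `a` to `b`. -/
def swaps (a b : Ω) : Set G := {z | ∃ c, z ∈ D.A c ∧ z • a = b}

/-- A product of two different elements of `swaps a b`. -/
def IsRot (a b : Ω) (g : G) : Prop := ∃ z ∈ D.swaps a b, ∃ z' ∈ D.swaps a b, z ≠ z' ∧ g = z * z'

variable {D}

theorem swaps_sq {a b : Ω} {z : G} (hz : z ∈ D.swaps a b) : z * z = 1 := by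
  obtain ⟨c, hc, -⟩ := hz
  exact hc.2.1

theorem swaps_back {a b : Ω} {z : G} (hz : z ∈ D.swaps a b) : z • b = a := by
  have := swaps_sq hz
  obtain ⟨c, hc, hab⟩ := hz
  rw [← hab, ← mul_smul, this, one_smul]

theorem swaps_ne_one {a b : Ω} (hab : a ≠ b) {z : G} (hz : z ∈ D.swaps a b) : z ≠ 1 := by
  obtain ⟨c, -, h⟩ := hz
  rintro rfl
  exact hab (by rw [← h, one_smul])

theorem swaps_comm {a b : Ω} (hab : a ≠ b) {z t : G} (hz : z ∈ D.swaps a b) (ht : t ∈ D.T a b) :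
    z * t = t * z := by
  obtain ⟨c, hc, h⟩ := hz
  exact D.A_comm_line hab (D.centre_mem hab hc h) hc ht

theorem card_A_eq (D : Data G Ω) (a b : Ω) : Nat.card (D.A a) = Nat.card (D.A b) := by
  have key : ∀ a b : Ω, Nat.card (D.A a) ≤ Nat.card (D.A b) := by
    intro a b
    by_cases hab : a = b
    · rw [hab]
    obtain ⟨g, hg, -⟩ := D.two hab (Ne.symm hab)
    refine Nat.card_le_card_of_injective
      (fun z => (⟨g * (z : G) * g⁻¹, hg ▸ D.A_conj g z.2⟩ : D.A b)) ?_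
    intro s t h
    exact Subtype.ext (mul_left_cancel (mul_right_cancel (congrArg Subtype.val h)))
  exact le_antisymm (key a b) (key b a)

theorem card_nonone (H : Subgroup G) :
    Nat.card {z : G // z ∈ H ∧ z ≠ 1} + 1 = Nat.card H := by
  have h1 : {z : G | z ∈ H ∧ z ≠ 1} = (H : Set G) \ {1} := by ext z; simp
  have h2 := Set.ncard_diff_singleton_add_one (show (1 : G) ∈ (H : Set G) from H.one_mem)
    (Set.toFinite _)
  rw [← h1, ← Nat.card_coe_set_eq, ← Nat.card_coe_set_eq] at h2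
  exact h2

theorem card_swaps (D : Data G Ω) {a b : Ω} (hab : a ≠ b) :
    Nat.card (D.swaps a b) + 1 = Nat.card (D.A a) := by
  classical
  have := Fintype.ofFinite Ω
  have key : ∀ b' : {c : Ω // c ≠ a}, Nat.card (D.swaps a b') = Nat.card (D.swaps a b) := by
    intro b'
    obtain ⟨g, hga, hgb⟩ := D.two hab (Ne.symm b'.2)
    refine (Nat.card_congr ((Equiv.subtypeEquiv (MulAut.conj g).toEquiv ?_))).symm
    intro z
    constructor
    · rintro ⟨c, hc, h⟩
      refine ⟨g • c, D.A_conj g hc, ?_⟩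
      show (g * z * g⁻¹) • a = (b' : Ω)
      rw [mul_smul, inv_smul_eq_iff.2 hga.symm, mul_smul, h, hgb]
    · rintro ⟨c, hc, h⟩
      refine ⟨g⁻¹ • c, ?_, ?_⟩
      · have := D.A_conj g⁻¹ hc
        simpa [mul_assoc] using this
      · have h' : (g * z * g⁻¹) • a = (b' : Ω) := h
        rw [mul_smul, inv_smul_eq_iff.2 hga.symm, mul_smul, ← hgb] at h'
        exact MulAction.injective g h'
  have key2 : ∀ c : {c : Ω // c ≠ a}, Nat.card {z : G // z ∈ D.A c ∧ z ≠ 1} + 1 =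
      Nat.card (D.A a) := fun c => by rw [card_nonone, D.card_A_eq a c]
  let f : (Σ b' : {c : Ω // c ≠ a}, D.swaps a b') → (Σ c : {c : Ω // c ≠ a},
      {z : G // z ∈ D.A c ∧ z ≠ 1}) := fun x =>
    ⟨⟨x.2.2.choose, fun e => x.1.2 (by
        have h := x.2.2.choose_spec
        rw [e] at h
        exact h.2.symm.trans h.1.1)⟩,
      ⟨x.2.1, x.2.2.choose_spec.1, swaps_ne_one (Ne.symm x.1.2) x.2.2⟩⟩
  have hf : Function.Bijective f := by
    constructor
    · rintro ⟨b₁, z₁, hz₁⟩ ⟨b₂, z₂, hz₂⟩ h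
      have hz : z₁ = z₂ := congrArg (fun x => ((x.2 : {z : G // z ∈ D.A x.1 ∧ z ≠ 1}) : G)) h
      subst hz
      have hb : b₁ = b₂ := Subtype.ext (hz₁.choose_spec.2.symm.trans hz₂.choose_spec.2)
      subst hb
      rfl
    · rintro ⟨c, z, hz, hz1⟩
      have hne : z • a ≠ a := fun e => c.2 (D.A_fix_only hz hz1 e).symm
      refine ⟨⟨⟨z • a, hne⟩, ⟨z, c, hz, rfl⟩⟩, ?_⟩
      have hh : ∃ d, z ∈ D.A d ∧ z • a = z • a := ⟨c, hz, rfl⟩
      have : (⟨hh.choose, fun e => hne (by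
          have h := hh.choose_spec.1; rw [e] at h; exact h.1)⟩ : {c : Ω // c ≠ a}) = c :=
        Subtype.ext ((D.A_fix_only hh.choose_spec.1 hz1 hz.1).symm)
      refine Sigma.ext this ?_
      refine (Subtype.heq_iff_coe_eq fun w => ?_).2 rfl
      have e2 : hh.choose = (c : Ω) := congrArg Subtype.val this
      show (w ∈ D.A hh.choose ∧ w ≠ 1) ↔ (w ∈ D.A (c : Ω) ∧ w ≠ 1)
      rw [e2]
  have hc := Nat.card_congr (Equiv.ofBijective f hf)
  rw [Nat.card_sigma, Nat.card_sigma] at hc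
  simp only [key] at hc
  have hne : Nonempty {c : Ω // c ≠ a} := ⟨⟨b, Ne.symm hab⟩⟩
  have key3 : ∀ c : {c : Ω // c ≠ a}, Nat.card {z : G // z ∈ D.A c ∧ z ≠ 1} =
      Nat.card (D.A a) - 1 := fun c => by have := key2 c; omega
  simp only [key3, Finset.sum_const, smul_eq_mul] at hc
  have := Nat.eq_of_mul_eq_mul_left (Finset.card_pos.2 ⟨⟨b, Ne.symm hab⟩, Finset.mem_univ _⟩) hc
  have := (Nat.card_pos : 0 < Nat.card (D.A a))
  omega

theorem exists_swap (D : Data G Ω) (hA : ∀ c : Ω, ∃ z ∈ D.A c, z ≠ 1) {a b : Ω} (hab : a ≠ b) :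
    ∃ z, z ∈ D.swaps a b := by
  have h := D.card_swaps hab
  obtain ⟨z, hz, hz1⟩ := hA a
  have h2 : 0 < Nat.card (D.swaps a b) := by
    have := Finite.one_lt_card_iff_nontrivial.2
      (⟨⟨z, hz⟩, 1, fun e => hz1 (congrArg Subtype.val e)⟩ : Nontrivial (D.A a))
    omega
  obtain ⟨⟨z', hz'⟩⟩ := (Nat.card_pos_iff.1 h2).1
  exact ⟨z', hz'⟩

namespace IsRot

variable {a b : Ω} {g : G}

theorem fix_left (hg : D.IsRot a b g) : g • a = a := by
  obtain ⟨z, hz, z', ⟨c', hc', h'⟩, -, rfl⟩ := hg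
  rw [mul_smul, h', swaps_back hz]

theorem fix_right (hg : D.IsRot a b g) : g • b = b := by
  obtain ⟨z, ⟨c, hc, h⟩, z', hz', -, rfl⟩ := hg
  rw [mul_smul, swaps_back hz', h]

theorem comm_T (hab : a ≠ b) (hg : D.IsRot a b g) {t : G} (ht : t ∈ D.T a b) : g * t = t * g := by
  obtain ⟨z, hz, z', hz', -, rfl⟩ := hg
  rw [mul_assoc, swaps_comm hab hz' ht, ← mul_assoc, swaps_comm hab hz ht, mul_assoc]

theorem centres (hab : a ≠ b) (hg : D.IsRot a b g) : ∃ c c' z z', z ∈ D.A c ∧ z' ∈ D.A c' ∧ z ≠ 1 ∧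
    z' ≠ 1 ∧ c ≠ c' ∧ c ∈ D.line a b ∧ c' ∈ D.line a b ∧ g = z * z' := by
  obtain ⟨z, hz, z', hz', hne, rfl⟩ := hg
  obtain ⟨c, hc, h⟩ := id hz
  obtain ⟨c', hc', h'⟩ := id hz'
  refine ⟨c, c', z, z', hc, hc', swaps_ne_one hab hz, swaps_ne_one hab hz', ?_,
    D.centre_mem hab hc h, D.centre_mem hab hc' h', rfl⟩
  rintro rfl
  have hfix : (z * z') • a = a := by rw [mul_smul, h', swaps_back hz]
  have hca : c ≠ a := fun e => hab (by rw [← h, ← e, hc.1])
  have h1 := D.A_inf_T hca ((D.A c).mul_mem hc hc') hfix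
  exact hne (by rw [← inv_eq_of_mul_eq_one_right hc'.2.1]; exact eq_inv_of_mul_eq_one_left h1)

theorem odd_order (hab : a ≠ b) (hg : D.IsRot a b g) : Odd (orderOf g) := by
  obtain ⟨c, c', z, z', hc, hc', hz1, hz'1, hcc, -, -, rfl⟩ := hg.centres hab
  exact D.odd_orderOf_mul hcc hc hz1 hc' hz'1

theorem fix_line (hab : a ≠ b) (hg : D.IsRot a b g) {d : Ω} (hd : g • d = d) :
    d ∈ D.line a b := by
  obtain ⟨c, c', z, z', hc, hc', hz1, hz'1, hcc, hcl, hcl', rfl⟩ := hg.centres hab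
  have h1 : z' • d = z • d := by
    conv_rhs => rw [← hd]
    rw [← mul_smul, ← mul_assoc, hc.2.1, one_mul]
  by_cases hdd : z • d = d
  · exact absurd ((D.A_fix_only hc hz1 hdd).symm.trans (D.A_fix_only hc' hz'1 (h1.trans hdd))) hcc
  · have h2 := D.centre_mem (Ne.symm hdd) hc rfl
    have h3 := D.centre_mem (Ne.symm hdd) hc' h1
    rw [← D.line_eq hab hcl hcl' hcc, D.line_eq (Ne.symm hdd) h2 h3 hcc]
    exact left_mem_line _ _

theorem no_comm (hab : a ≠ b) (hg : D.IsRot a b g) {e : G} (he : e ∈ D.A a)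
    (hc : g * e = e * g) : e = 1 := by
  by_contra he1
  have hfa := hg.fix_left
  obtain ⟨c, c', z, z', hz, hz', hz1, hz'1, hcc, -, -, rfl⟩ := hg.centres hab
  set F : Set Ω := {d | (z * z') • d = d}
  have hzF : ∀ d ∈ F, z • d ∈ F := fun d (hd : (z * z') • d = d) => by
    show (z * z') • z • d = z • d
    have : z' • d = z • d := by
      conv_rhs => rw [← hd]
      rw [← mul_smul, ← mul_assoc, hz.2.1, one_mul]
    rw [mul_smul, ← this, ← mul_smul z', hz'.2.1, one_smul, this]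
  have heven : Even F.ncard := by
    rw [← Nat.not_odd_iff_even]
    intro hodd
    obtain ⟨d, hd, hzd⟩ := exists_fix_of_odd hz.2.1 F hzF hodd
    have : z' • d = z • d := by
      conv_rhs => rw [← (show (z * z') • d = d from hd)]
      rw [← mul_smul, ← mul_assoc, hz.2.1, one_mul]
    exact hcc ((D.A_fix_only hz hz1 hzd).symm.trans (D.A_fix_only hz' hz'1 (this.trans hzd)))
  have heF : ∀ d ∈ F, e • d ∈ F := fun d (hd : (z * z') • d = d) => by
    show (z * z') • e • d = e • d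
    rw [← mul_smul, hc, mul_smul, hd]
  obtain ⟨d, -, hda, hed⟩ := exists_fix_of_even he.2.1 F heF (show a ∈ F from hfa) he.1 heven
  exact hda (D.A_fix_only he he1 hed)

end IsRot

/-- The rotations at `(a, b)` are transitive on the nontrivial elements of `A a`. -/
theorem exists_rot_conj (D : Data G Ω) (hA : ∀ c : Ω, ∃ z ∈ D.A c, z ≠ 1) {a b : Ω} (hab : a ≠ b)
    {z z' : G} (hz : z ∈ D.A a) (hz1 : z ≠ 1) (hz' : z' ∈ D.A a) (hz'1 : z' ≠ 1) (hne : z ≠ z') :
    ∃ g, D.IsRot a b g ∧ g * z * g⁻¹ = z' := by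
  classical
  obtain ⟨z₀, hz₀⟩ := D.exists_swap hA hab
  have hfix : ∀ w ∈ D.swaps a b, (w * z₀) • a = a := fun w hw => by
    obtain ⟨c₀, -, h₀⟩ := id hz₀
    rw [mul_smul, h₀, swaps_back hw]
  let f : D.swaps a b → {x : G // x ∈ D.A a ∧ x ≠ 1} := fun w =>
    ⟨((w : G) * z₀) * z * ((w : G) * z₀)⁻¹, D.A_conj_fix (hfix w w.2) hz,
      fun e => hz1 (conj_eq_one_iff.1 e)⟩
  have hinj : Function.Injective f := by
    rintro ⟨w, hw⟩ ⟨w', hw'⟩ h
    by_contra hne'
    have h' : (w * z₀) * z * (w * z₀)⁻¹ = (w' * z₀) * z * (w' * z₀)⁻¹ := congrArg Subtype.val h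
    have hconj : ∀ x ∈ D.swaps a b, z₀ * x * z₀⁻¹ ∈ D.swaps a b := fun x hx => by
      obtain ⟨c₀, hc₀, h₀⟩ := id hz₀
      have hi : z₀⁻¹ = z₀ := inv_eq_of_mul_eq_one_right hc₀.2.1
      obtain ⟨d, hd, hdx⟩ := id hx
      refine ⟨z₀ • d, D.A_conj z₀ hd, ?_⟩
      rw [hi, mul_smul, mul_smul, h₀, swaps_back hx, h₀]
    have hrot : D.IsRot a b ((z₀ * w * z₀⁻¹) * (z₀ * w' * z₀⁻¹)) :=
      ⟨_, hconj w hw, _, hconj w' hw',
        fun e => hne' (Subtype.ext (mul_left_cancel (mul_right_cancel e))), rfl⟩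
    have hwi : w⁻¹ = w := inv_eq_of_mul_eq_one_right (swaps_sq hw)
    have hi : z₀⁻¹ = z₀ := inv_eq_of_mul_eq_one_right (swaps_sq hz₀)
    have hX : (z₀ * w * z₀⁻¹) * (z₀ * w' * z₀⁻¹) = (w * z₀)⁻¹ * (w' * z₀) := by
      rw [mul_inv_rev, hwi, hi]
      calc z₀ * w * z₀ * (z₀ * w' * z₀) = z₀ * w * (z₀ * z₀) * w' * z₀ := by group
        _ = z₀ * w * (w' * z₀) := by rw [swaps_sq hz₀]; group
    refine hz1 (hrot.no_comm hab hz ?_)
    rw [hX]
    calc (w * z₀)⁻¹ * (w' * z₀) * z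
        = (w * z₀)⁻¹ * ((w' * z₀) * z * (w' * z₀)⁻¹) * (w' * z₀) := by group
      _ = (w * z₀)⁻¹ * ((w * z₀) * z * (w * z₀)⁻¹) * (w' * z₀) := by rw [h']
      _ = z * ((w * z₀)⁻¹ * (w' * z₀)) := by group
  have hbij := hinj.bijective_of_nat_card_le (by
    have h1 := D.card_swaps hab
    have h2 := card_nonone (D.A a)
    omega)
  obtain ⟨⟨w, hw⟩, hwz⟩ := hbij.2 ⟨z', hz', hz'1⟩
  have hwz' : (w * z₀) * z * (w * z₀)⁻¹ = z' := congrArg Subtype.val hwz
  refine ⟨w * z₀, ⟨w, hw, z₀, hz₀, fun e => ?_, rfl⟩, hwz'⟩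
  subst e
  rw [swaps_sq hw] at hwz'
  exact hne (by simpa using hwz')

end Data

end Cfsg.Agent.H48.Saturation
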