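import Cfsg.Agent.H48.Saturation.Main
import Cfsg.Agent.S0322
import Cfsg.Prelude.Def_Involutions
import Cfsg.Prelude.Def_LieExceptional
import Cfsg.Prelude.Def_Exceptional

/-!
# Strongly split (B, N)-pairs of rank one with odd index: the point stabiliser is strongly embedded

With `Bender` (the classification of simple groups with a strongly embedded subgroup) this gives the
classification of the strongly split pairs of odd index and odd `B ⊓ N`.
-/

set_option autoImplicit false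
set_option linter.unusedSectionVars false

namespace Cfsg.Agent.H48.Saturation

open MulAction

universe u

variable {G : Type u} [Group G] [Finite G] (P : Cfsg.BNPair G) {U : Subgroup G}

theorem exists_N_not_B (hrank : P.rank = 1) : ∃ n ∈ P.N, n ∉ P.B := by
  obtain ⟨-, ⟨s, hs⟩⟩ := Nat.card_eq_one_iff_unique.1 hrank
  refine ⟨s, P.subset hs, fun hsB => P.conj_ne s hs ?_⟩
  ext g
  constructor
  · rintro ⟨b, hb, rfl⟩
    exact mul_mem (mul_mem hsB hb) hsB
  · intro hg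
    exact ⟨s⁻¹ * g * s⁻¹, mul_mem (mul_mem (inv_mem hsB) hg) (inv_mem hsB), by group⟩

theorem eq_one_of_odd {x : G} (hx : Odd (orderOf x)) (h : TwoEl x) : x = 1 := by
  obtain ⟨k, hk⟩ := h
  rw [← orderOf_eq_one_iff]
  exact Nat.Coprime.eq_one_of_dvd (Nat.Coprime.pow_right k (Nat.coprime_two_right.2 hx))
    (orderOf_dvd_of_pow_eq_one hk)

theorem isStronglyEmbedded_B [IsSimpleGroup G] (hrank : P.rank = 1) (hUB : U ≤ P.B)
    (hUn : (U.subgroupOf P.B).Normal) (hUnil : Group.IsNilpotent U)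
    (hsplit : U ⊔ (P.B ⊓ P.N) = P.B) (hdisj : U ⊓ P.N = ⊥) (hind : Odd P.B.index)
    (hH : Odd (Nat.card ↥(P.B ⊓ P.N))) :
    Cfsg.IsStronglyEmbedded P.B ∧ ∃ a b : G, a * b ≠ b * a := by
  classical
  obtain ⟨n₀, hn₀, hn₀B⟩ := exists_N_not_B P hrank
  have hBtop : P.B ≠ ⊤ := fun e => hn₀B (e ▸ Subgroup.mem_top n₀)
  have hconjU : ∀ b ∈ P.B, ∀ u ∈ U, b * u * b⁻¹ ∈ U := fun b hb u hu => by
    simpa [Subgroup.mem_subgroupOf] using hUn.conj_mem ⟨u, hUB hu⟩ hu ⟨b, hb⟩
  have hconj' : ∀ b ∈ P.B, ∀ u ∈ U, b⁻¹ * u * b ∈ U := fun b hb u hu => by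
    simpa using hconjU b⁻¹ (inv_mem hb) u hu
  -- an element of `B` is an element of `U` times one of `B ⊓ N`
  have hdec : ∀ β ∈ P.B, ∃ u ∈ U, ∃ h ∈ P.B ⊓ P.N, β = u * h := by
    intro β hβ
    let K : Subgroup G :=
      { carrier := {β | ∃ u ∈ U, ∃ h ∈ P.B ⊓ P.N, β = u * h}
        one_mem' := ⟨1, U.one_mem, 1, Subgroup.one_mem _, (one_mul 1).symm⟩
        mul_mem' := by
          rintro x y ⟨u, hu, h, hh, rfl⟩ ⟨u', hu', h', hh', rfl⟩
          exact ⟨u * (h * u' * h⁻¹), U.mul_mem hu (hconjU h hh.1 u' hu'), h * h',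
            Subgroup.mul_mem _ hh hh', by group⟩
        inv_mem' := by
          rintro x ⟨u, hu, h, hh, rfl⟩
          exact ⟨h⁻¹ * u⁻¹ * h, hconj' h hh.1 _ (U.inv_mem hu), h⁻¹, Subgroup.inv_mem _ hh,
            by group⟩ }
    have hle : U ⊔ (P.B ⊓ P.N) ≤ K := sup_le
      (fun u hu => ⟨u, hu, 1, Subgroup.one_mem _, (mul_one u).symm⟩)
      (fun h hh => ⟨1, U.one_mem, h, hh, (one_mul h).symm⟩)
    exact hle (by rw [hsplit]; exact hβ)
  let Ω := G ⧸ P.B
  let a₀ : Ω := ((1 : G) : G ⧸ P.B)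
  have hmk : ∀ g : G, g • a₀ = (g : G ⧸ P.B) := fun g => by
    show g • ((1 : G) : G ⧸ P.B) = _
    rw [MulAction.Quotient.smul_coe, smul_eq_mul, mul_one]
  have hst : stabilizer G a₀ = P.B := MulAction.stabilizer_quotient P.B
  have hh0 : ∀ h ∈ P.B ⊓ P.N, h • ((n₀ : G) : G ⧸ P.B) = (n₀ : G ⧸ P.B) := by
    intro h hh
    rw [MulAction.Quotient.smul_coe, smul_eq_mul, eq_comm, QuotientGroup.eq]
    have := P.conj_mem n₀⁻¹ (inv_mem hn₀) h hh
    simpa [mul_assoc] using this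
  have htwo : ∀ {a b a' b' : Ω}, a ≠ b → a' ≠ b' → ∃ g : G, g • a = a' ∧ g • b = b' := by
    have h2 := S0322.result P hrank
    rw [MulAction.is_two_pretransitive_iff] at h2
    intro a b a' b' h h'
    exact h2 h h'
  have hn0 : ((n₀ : G) : G ⧸ P.B) ≠ a₀ := fun e => hn₀B (by
    rw [← hst, mem_stabilizer_iff, hmk]; exact e)
  have htrans0 : ∀ c : Ω, c ≠ a₀ → ∃ u ∈ U, u • ((n₀ : G) : G ⧸ P.B) = c := by
    intro c hc
    obtain ⟨β, hβ, hβc⟩ := htwo (Ne.symm hn0) (Ne.symm hc)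
    obtain ⟨u, hu, h, hh, e⟩ := hdec β (hst.le hβ)
    exact ⟨u, hu, by rw [← hβc, e, mul_smul, hh0 h hh]⟩
  have hUfix : ∀ u ∈ U, u • a₀ = a₀ := fun u hu =>
    mem_stabilizer_iff.1 (hst.ge (hUB hu))
  let rep : Ω → G := Quotient.out
  have hrep : ∀ p : Ω, rep p • a₀ = p := fun p => by rw [hmk]; exact Quotient.out_eq p
  have hrep' : ∀ (g : G) (p : Ω), (rep (g • p))⁻¹ * g * rep p ∈ P.B := by
    intro g p
    refine hst.le (mem_stabilizer_iff.2 ?_)
    rw [mul_smul, mul_smul, hrep, inv_smul_eq_iff, hrep]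
  let D : Data G Ω :=
    { U := fun p => U.map (MulAut.conj (rep p)).toMonoidHom
      fix := by
        rintro p _ ⟨u, hu, rfl⟩
        show (rep p * u * (rep p)⁻¹) • p = p
        rw [mul_smul, inv_smul_eq_iff.2 (hrep p).symm, mul_smul, hUfix u hu, hrep]
      conj := by
        rintro g p _ ⟨u, hu, rfl⟩
        refine ⟨((rep (g • p))⁻¹ * g * rep p) * u * ((rep (g • p))⁻¹ * g * rep p)⁻¹,
          hconjU _ (hrep' g p) u hu, ?_⟩
        show rep (g • p) * _ * (rep (g • p))⁻¹ = g * (rep p * u * (rep p)⁻¹) * g⁻¹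
        group
      trans := by
        intro p b c hb hc
        have h1 : ∀ x : Ω, x ≠ p → (rep p)⁻¹ • x ≠ a₀ := fun x hx e =>
          hx (by rw [inv_smul_eq_iff.1 e, hrep])
        obtain ⟨u₁, hu₁, e₁⟩ := htrans0 _ (h1 b hb)
        obtain ⟨u₂, hu₂, e₂⟩ := htrans0 _ (h1 c hc)
        refine ⟨rep p * (u₂ * u₁⁻¹) * (rep p)⁻¹,
          ⟨_, U.mul_mem hu₂ (U.inv_mem hu₁), rfl⟩, ?_⟩
        rw [mul_smul, mul_smul, mul_smul, inv_smul_eq_iff.2 e₁.symm, e₂, smul_inv_smul]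
      two := htwo
      nil := fun p => Group.isNilpotent_congr (Subgroup.equivMapOfInjective U
        (MulAut.conj (rep p)).toMonoidHom (MulAut.conj (rep p)).injective) |>.1 hUnil
      two_el := by
        intro p g hgp hg
        refine ⟨(rep p)⁻¹ * g * rep p, ?_, by simp [mul_assoc]⟩
        have hgB : (rep p)⁻¹ * g * rep p ∈ P.B := by
          rw [← hst, mem_stabilizer_iff, mul_smul, mul_smul, hrep, inv_smul_eq_iff, hgp, hrep]
        obtain ⟨u, hu, h, hh, e⟩ := hdec _ hgB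
        obtain ⟨k, hk⟩ := by simpa using hg.conj (rep p)⁻¹
        rw [e] at hk
        have key : ∀ i : ℕ, ∃ w ∈ U, (u * h) ^ i = w * h ^ i := by
          intro i
          induction i with
          | zero => exact ⟨1, U.one_mem, by simp⟩
          | succ i ih =>
            obtain ⟨w, hw, he⟩ := ih
            refine ⟨w * (h ^ i * u * (h ^ i)⁻¹),
              U.mul_mem hw (hconjU _ (pow_mem hh.1 i) u hu), ?_⟩
            rw [pow_succ, he, pow_succ]; group
        obtain ⟨w, hw, he⟩ := key (2 ^ k)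
        rw [hk] at he
        have hpow : h ^ 2 ^ k ∈ U ⊓ P.N :=
          ⟨by rw [eq_inv_of_mul_eq_one_right he.symm]; exact U.inv_mem hw, pow_mem hh.2 _⟩
        rw [hdisj, Subgroup.mem_bot] at hpow
        have h1 : h = 1 := eq_one_of_odd (Odd.of_dvd_nat hH (by
          have := orderOf_dvd_natCard (⟨h, hh⟩ : ↥(P.B ⊓ P.N))
          rwa [← Subgroup.orderOf_coe] at this)) ⟨k, hpow⟩
        rw [e, h1, mul_one]
        exact hu
      odd_pts := hind
      one_lt := by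
        have h1 : P.B.index ≠ 1 := fun e => hBtop (Subgroup.index_eq_one.1 e)
        obtain ⟨j, hj⟩ := hind
        show 1 < P.B.index
        omega }
  have hcore : P.B.normalCore = ⊥ :=
    (Subgroup.normalCore_normal P.B).eq_bot_or_eq_top.resolve_right fun h =>
      hBtop (top_unique (h ▸ P.B.normalCore_le))
  have hfaith : FaithfulSMul G Ω := ⟨fun {g₁ g₂} h => by
    have hk : g₁⁻¹ * g₂ ∈ P.B.normalCore := fun b => by
      have := h ((b⁻¹ : G) : G ⧸ P.B)
      rw [MulAction.Quotient.smul_coe, MulAction.Quotient.smul_coe, QuotientGroup.eq] at this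
      simpa [smul_eq_mul, mul_assoc] using this
    rw [hcore, Subgroup.mem_bot, inv_mul_eq_one] at hk
    exact hk⟩
  have heven : Even (Nat.card P.B) := by
    obtain ⟨g, hg1, hg2⟩ := htwo (Ne.symm hn0) hn0
    have hG : 2 ∣ Nat.card G := by
      by_contra hno
      have hodd : Odd (orderOf g) :=
        (Nat.odd_iff.2 (by omega : Nat.card G % 2 = 1)).of_dvd_nat (orderOf_dvd_natCard g)
      obtain ⟨i, hi⟩ := hodd
      have hfix : ∀ i : ℕ, g ^ (2 * i) • a₀ = a₀ := by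
        intro i
        induction i with
        | zero => simp
        | succ i ih => rw [Nat.mul_succ, pow_add, sq, mul_smul, mul_smul, hg1, hg2, ih]
      refine hn0 ?_
      calc ((n₀ : G) : G ⧸ P.B) = g • a₀ := hg1.symm
        _ = g • g ^ (2 * i) • a₀ := by rw [hfix]
        _ = a₀ := by rw [← mul_smul, ← pow_succ', ← hi, pow_orderOf_eq_one, one_smul]
    rw [← Subgroup.card_mul_index P.B] at hG
    rcases (Nat.prime_two.dvd_mul).1 hG with h | h
    · exact even_iff_two_dvd.2 h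
    · exact absurd (even_iff_two_dvd.2 h) (Nat.not_even_iff_odd.2 hind)
  refine ⟨⟨hBtop, heven, fun g hg => ?_⟩, ?_⟩
  · by_contra hev
    rw [Nat.not_odd_iff_even, even_iff_two_dvd] at hev
    obtain ⟨x, hx⟩ := exists_prime_orderOf_dvd_card' 2 hev
    have hxx : (x : G) * x = 1 := by
      have := pow_orderOf_eq_one x
      rw [hx, sq] at this
      exact congrArg Subtype.val this
    have hne : a₀ ≠ g • a₀ := fun e => hg (hst.le (mem_stabilizer_iff.2 e.symm))
    have hxT : (x : G) ∈ D.T a₀ (g • a₀) := by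
      obtain ⟨h1, y, hy, hyx⟩ := x.2
      refine Data.mem_T.2 ⟨hst.ge h1, ?_, TwoEl.of_sq hxx⟩
      have : (x : G) = g * y * g⁻¹ := hyx.symm
      rw [this, mul_smul, inv_smul_smul, mul_smul]
      exact congrArg (g • ·) (hst.ge hy)
    rw [D.T_eq_bot hne, Subgroup.mem_bot] at hxT
    rw [show x = 1 from Subtype.ext hxT, orderOf_one] at hx
    omega
  · by_contra hab
    push Not at hab
    -- then `B` fixes every point
    have hB : P.B = ⊥ := by
      rw [eq_bot_iff]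
      intro β hβ
      refine Subgroup.mem_bot.2 (Data.eq_one_of_fix (Ω := Ω) fun c => ?_)
      rw [← hrep c, ← mul_smul, hab, mul_smul, hst.ge hβ]
    rw [hB, Subgroup.card_bot] at heven
    exact Nat.not_even_one heven

/-- The classification of the strongly split pairs of odd index, from Bender's theorem. -/
theorem classification [IsSimpleGroup G]
    (hbender : (∃ a b : G, a * b ≠ b * a) → Cfsg.IsStronglyEmbedded P.B →
      (∃ (F : Type) (_ : Field F) (_ : Fintype F), CharP F 2 ∧ 4 ≤ Fintype.card F ∧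
          Nonempty (G ≃* Matrix.ProjectiveSpecialLinearGroup (Fin 2) F)) ∨ Cfsg.IsSuzuki G ∨
        (∃ (F : Type) (_ : Field F) (_ : Fintype F) (q : ℕ), Fintype.card F = q ^ 2 ∧ Even q ∧
          4 ≤ q ∧ Nonempty (G ≃* Cfsg.PSU 3 F q)))
    (hrank : P.rank = 1) (hUB : U ≤ P.B) (hUn : (U.subgroupOf P.B).Normal)
    (hUnil : Group.IsNilpotent U) (hsplit : U ⊔ (P.B ⊓ P.N) = P.B) (hdisj : U ⊓ P.N = ⊥)
    (hind : Odd P.B.index) (hH : Odd (Nat.card ↥(P.B ⊓ P.N))) :
    (∃ (F : Type) (_ : Field F) (_ : Fintype F), (∃ n : ℕ, Fintype.card F = 2 ^ n) ∧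
        Nonempty (G ≃* Matrix.ProjectiveSpecialLinearGroup (Fin 2) F)) ∨
      Cfsg.IsSuzuki G ∨
      (∃ (F : Type) (_ : Field F) (_ : Fintype F) (n : ℕ), 2 ≤ n ∧
        Fintype.card F = (2 ^ n) ^ 2 ∧ Nonempty (G ≃* Cfsg.PSU 3 F (2 ^ n))) := by
  obtain ⟨hse, hna⟩ := isStronglyEmbedded_B P hrank hUB hUn hUnil hsplit hdisj hind hH
  rcases hbender hna hse with ⟨F, i1, i2, hc, h4, hφ⟩ | h | ⟨F, i1, i2, q, hF, hqe, hq4, hφ⟩
  · refine Or.inl ⟨F, i1, i2, ?_, hφ⟩
    obtain ⟨n, -, hn⟩ := FiniteField.card F 2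
    exact ⟨n, hn⟩
  · exact Or.inr (Or.inl h)
  · obtain ⟨p, hp⟩ := CharP.exists F
    obtain ⟨n, hpp, hn⟩ := FiniteField.card F p
    have : Fact p.Prime := ⟨hpp⟩
    have hdvd : q ∣ p ^ (n : ℕ) := ⟨q, by rw [← hn, hF, sq]⟩
    obtain ⟨j, -, hj⟩ := (Nat.dvd_prime_pow hpp).1 hdvd
    have hp2 : p = 2 := by
      rw [hj] at hqe
      have h2 : 2 ∣ p := Nat.prime_two.dvd_of_dvd_pow (even_iff_two_dvd.1 hqe)
      exact ((Nat.prime_dvd_prime_iff_eq Nat.prime_two hpp).1 h2).symm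
    subst hp2
    refine Or.inr (Or.inr ⟨F, i1, i2, j, ?_, by rw [hF, hj], hj ▸ hφ⟩)
    by_contra hj2
    interval_cases j <;> simp_all

end Cfsg.Agent.H48.Saturation
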